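import Groth.Agent.W7Gen.Sect
import Groth.Agent.RPushQC.Main
import Groth.Agent.CohQC.Relative
import Groth.Agent.CohQC.QuasiAffine

/-!
The comparison is bijective over opens acyclic for the higher direct images.
-/

set_option autoImplicit false
set_option backward.isDefEq.respectTransparency false
set_option linter.style.haveILetI false

universe u

open CategoryTheory CategoryTheory.Limits AlgebraicGeometry TopologicalSpace Opposite Abelian
open Groth.Agent.QC (res resO res_res res_self res_smul app_res)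
open Groth.Agent.SiteCoh

noncomputable section

namespace Groth.Agent.W7Gen

variable {X Y : Scheme.{u}}

/-- Acyclicity of a module on an open. -/
def AcyAt (M : Y.Modules) (V : Y.Opens) : Prop := ∀ q : ℕ, Subsingleton (CohSite.HU (Coh.toAb M) (q + 1) V)

lemma AcyAt.congr {M N : Y.Modules} (e : M ≅ N) {V : Y.Opens} (h : AcyAt M V) : AcyAt N V :=
  acyc_of_iso ((SheafOfModules.toSheaf Y.ringCatSheaf).mapIso e) h

lemma toAb_shortExact {S : ShortComplex Y.Modules} (hS : S.ShortExact) :
    (S.map (CohQC.toAbF Y)).ShortExact :=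
  hS.map_of_exact _

lemma AcyAt.quotient {S : ShortComplex Y.Modules} (hS : S.ShortExact) {V : Y.Opens}
    (h₁ : AcyAt S.X₁ V) (h₂ : AcyAt S.X₂ V) : AcyAt S.X₃ V := fun q => by
  haveI : Subsingleton (Ext (CohCx.freeSheaf (Opens.grothendieckTopology Y) V) (S.map (CohQC.toAbF Y)).X₂ (q + 1)) := h₂ q
  haveI : Subsingleton (Ext (CohCx.freeSheaf (Opens.grothendieckTopology Y) V) (S.map (CohQC.toAbF Y)).X₁ (q + 1 + 1)) :=
    h₁ (q + 1)
  exact subsingleton_ext_quotient (S := S.map (CohQC.toAbF Y)) (toAb_shortExact hS)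
    (CohCx.freeSheaf (Opens.grothendieckTopology Y) V) (q + 1)

lemma AcyAt.middle {S : ShortComplex Y.Modules} (hS : S.ShortExact) {V : Y.Opens}
    (h₁ : AcyAt S.X₁ V) (h₃ : AcyAt S.X₃ V) : AcyAt S.X₂ V := fun q => by
  haveI : Subsingleton (Ext (CohCx.freeSheaf (Opens.grothendieckTopology Y) V) (S.map (CohQC.toAbF Y)).X₁ (q + 1)) := h₁ q
  haveI : Subsingleton (Ext (CohCx.freeSheaf (Opens.grothendieckTopology Y) V) (S.map (CohQC.toAbF Y)).X₃ (q + 1)) := h₃ q
  refine subsingleton_of_forall_eq 0 fun x => ?_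
  obtain ⟨x₁, rfl⟩ := Ext.covariant_sequence_exact₂
    (CohCx.freeSheaf (Opens.grothendieckTopology Y) V) (toAb_shortExact hS) x (Subsingleton.elim _ _)
  rw [Subsingleton.elim x₁ 0, Ext.zero_comp]

lemma app_surjective_of_acyAt {S : ShortComplex Y.Modules} (hS : S.ShortExact) {V : Y.Opens}
    (h₁ : AcyAt S.X₁ V) : Function.Surjective (S.g.app V) :=
  haveI : Subsingleton (CohSite.HU (S.map (CohQC.toAbF Y)).X₁ 1 V) := h₁ 0
  sections_surjective (toAb_shortExact hS) V

variable [HasInjectiveResolutions X.Modules] {f : X ⟶ Y}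

lemma acyAt_rpush_zero_injective (I : X.Modules) [Injective I] (V : Y.Opens) :
    AcyAt ((Coh.Rpush f 0).obj I) V := by
  refine AcyAt.congr (asIso ((Scheme.Modules.pushforward f).toRightDerivedZero.app I)) fun q => ?_
  haveI := RPushQC.isFlasque_toAb (RPushQC.isFlasque_of_injective I)
  haveI : TopCat.Sheaf.IsFlasque ((CohTop.push f.base).obj (Coh.toAb I)) :=
    TopCat.Sheaf.IsFlasque.pushforward_isFlasque (Coh.toAb I) f.base
  exact flasque_acyclic ((CohTop.push f.base).obj (Coh.toAb I)) V q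

variable {Δ : RDer.DerivedLES (Scheme.Modules.pushforward f)}

lemma mono_rpush_zero_map {A B : X.Modules} (a : A ⟶ B) [Mono a] : Mono ((Coh.Rpush f 0).map a) := by
  haveI : Mono ((Scheme.Modules.pushforward f).map a) := inferInstance
  haveI : Mono ((Scheme.Modules.pushforward f).toRightDerivedZero.app A ≫ (Coh.Rpush f 0).map a) := by
    rw [← (Scheme.Modules.pushforward f).toRightDerivedZero.naturality a]
    exact mono_comp _ _
  have e : (Coh.Rpush f 0).map a = inv ((Scheme.Modules.pushforward f).toRightDerivedZero.app A) ≫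
      ((Scheme.Modules.pushforward f).toRightDerivedZero.app A ≫ (Coh.Rpush f 0).map a) := by simp
  rw [e]
  exact mono_comp _ _

variable (Δ)

/-- The image of `f_* I → f_* Q`. -/
def low (F : X.Modules) : ShortComplex Y.Modules :=
  ShortComplex.mk ((Coh.Rpush f 0).map (emb F).f)
    (kernel.lift (Δ.δ (emb F) (emb_shortExact F) 0 1 rfl) ((Coh.Rpush f 0).map (emb F).g)
      (Δ.comp_δ (emb F) (emb_shortExact F) 0 1 rfl))
    (by
      rw [← cancel_mono (kernel.ι _), Category.assoc, kernel.lift_ι, zero_comp, ← Functor.map_comp, (emb F).zero,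
        Functor.map_zero])

lemma low_shortExact (F : X.Modules) : (low Δ F).ShortExact where
  exact := by
    refine (ShortComplex.exact_iff_of_epi_of_isIso_of_mono
      ({ τ₁ := 𝟙 _, τ₂ := 𝟙 _, τ₃ := kernel.ι _,
         comm₁₂ := (Category.id_comp _).trans (Category.comp_id _).symm,
         comm₂₃ := (Category.id_comp _).trans (kernel.lift_ι _ _ _).symm } : low Δ F ⟶
        ShortComplex.mk ((Coh.Rpush f 0).map (emb F).f) ((Coh.Rpush f 0).map (emb F).g)
          (by rw [← Functor.map_comp, (emb F).zero, Functor.map_zero]))).2 (Δ.exact₂ (emb F) (emb_shortExact F) 0)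
  mono_f := haveI := (emb_shortExact F).mono_f; mono_rpush_zero_map (emb F).f
  epi_g := (Δ.exact₃ (emb F) (emb_shortExact F) 0 1 rfl).epi_kernelLift

lemma epi_δ (F : X.Modules) (p : ℕ) : Epi (Δ.δ (emb F) (emb_shortExact F) p (p + 1) rfl) :=
  (Δ.exact₁ (emb F) (emb_shortExact F) p (p + 1) rfl).epi_f
    ((isZero_rpush_injective (f := f) (emb F).X₂ p).eq_of_tgt _ _)

lemma isIso_δ (F : X.Modules) (p : ℕ) : IsIso (Δ.δ (emb F) (emb_shortExact F) (p + 1) (p + 1 + 1) rfl) := by
  haveI := epi_δ Δ F (p + 1)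
  haveI : Mono (Δ.δ (emb F) (emb_shortExact F) (p + 1) (p + 1 + 1) rfl) :=
    (Δ.exact₃ (emb F) (emb_shortExact F) (p + 1) (p + 1 + 1) rfl).mono_g
      ((isZero_rpush_injective (f := f) (emb F).X₂ p).eq_of_src _ _)
  exact isIso_of_mono_of_epi _

/-- The top sequence. -/
def high (F : X.Modules) : ShortComplex Y.Modules :=
  ShortComplex.mk (kernel.ι (Δ.δ (emb F) (emb_shortExact F) 0 1 rfl)) (Δ.δ (emb F) (emb_shortExact F) 0 1 rfl)
    (kernel.condition _)

lemma high_shortExact (F : X.Modules) : (high Δ F).ShortExact where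
  exact := ShortComplex.exact_of_f_is_kernel _ (kernelIsKernel _)
  mono_f := inferInstanceAs (Mono (kernel.ι _))
  epi_g := epi_δ Δ F 0

include Δ in
/-- Acyclicity of the higher direct images passes to the cosyzygy. -/
lemma acyAt_step (F : X.Modules) (V : Y.Opens) (h : ∀ q, AcyAt ((Coh.Rpush f q).obj F) V) :
    ∀ q, AcyAt ((Coh.Rpush f q).obj (emb F).X₃) V
  | 0 => AcyAt.middle (high_shortExact Δ F)
      (AcyAt.quotient (low_shortExact Δ F) (h 0) (acyAt_rpush_zero_injective (emb F).X₂ V)) (h 1)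
  | q + 1 =>
    haveI := isIso_δ Δ F q
    AcyAt.congr (asIso (Δ.δ (emb F) (emb_shortExact F) (q + 1) (q + 1 + 1) rfl)).symm (h (q + 1 + 1))

variable {Δ}

/-- The comparison is bijective on opens acyclic for all higher direct images. -/
theorem ε_bijective (E : CohCmp.SectCmp f Δ) (V : Y.Opens) : ∀ (p : ℕ) (F : X.Modules)
    (_ : ∀ q, AcyAt ((Coh.Rpush f q).obj F) V), Function.Bijective (E.ε V F p)
  | 0, F, _ => ε_zero_bijective E V F
  | p + 1, F, h => by
    have hQ := ε_bijective E V p (emb F).X₃ (acyAt_step Δ F V h)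
    have hS := emb_shortExact F
    have hV := restr_shortExact hS (f ⁻¹ᵁ V)
    refine ⟨(injective_iff_map_eq_zero _).2 fun x hx => ?_, fun t => ?_⟩
    · obtain ⟨z, rfl⟩ := exists_extδ F _ p x
      have h0 : (Δ.δ (emb F) hS p (p + 1) rfl).app V (E.ε V (emb F).X₃ p z) = 0 :=
        (E.delta V (emb F) hS hV p z).symm.trans hx
      rcases p with _ | q
      · haveI : Mono (high Δ F).f := (high_shortExact Δ F).mono_f
        obtain ⟨k, hk⟩ := exists_app_of_mono (T := high Δ F) (high_shortExact Δ F).exact V _ h0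
        obtain ⟨w, hw⟩ := app_surjective_of_acyAt (low_shortExact Δ F) (h 0) k
        obtain ⟨b, rfl⟩ := (ε_zero_bijective E V (emb F).X₂).2 w
        refine (CohFinite.δH_eq_zero_iff hV 0 z).2 ⟨b, hQ.1 ?_⟩
        refine (E.natural V (emb F).g 0 b).trans (Eq.trans ?_ hk)
        rw [← hw]
        exact congr(($((kernel.lift_ι (Δ.δ (emb F) hS 0 1 rfl) ((Coh.Rpush f 0).map (emb F).g)
          (Δ.comp_δ (emb F) hS 0 1 rfl)).symm)).app V _)
      · haveI := isIso_δ Δ F q
        have : z = 0 := hQ.1 (((ConcreteCategory.bijective_of_isIso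
          (Scheme.Modules.Hom.app (Δ.δ (emb F) hS (q + 1) (q + 1 + 1) rfl) V)).1
            (h0.trans (map_zero _).symm)).trans (map_zero (E.ε V (emb F).X₃ (q + 1))).symm)
        rw [this, map_zero]
    · obtain ⟨s, hs⟩ : ∃ s, (Δ.δ (emb F) hS p (p + 1) rfl).app V s = t := by
        rcases p with _ | q
        · exact app_surjective_of_acyAt (high_shortExact Δ F)
            (AcyAt.quotient (low_shortExact Δ F) (h 0) (acyAt_rpush_zero_injective (emb F).X₂ V)) t
        · haveI := isIso_δ Δ F q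
          exact (ConcreteCategory.bijective_of_isIso
            (Scheme.Modules.Hom.app (Δ.δ (emb F) hS (q + 1) (q + 1 + 1) rfl) V)).2 t
      obtain ⟨z, hz⟩ := hQ.2 s
      exact ⟨CohCmp.extδ hV p z, (E.delta V (emb F) hS hV p z).trans ((congrArg _ hz).trans hs)⟩

/-- The comparison is bijective on affine opens for quasi-coherent modules. -/
theorem ε_bijective_affine (E : CohCmp.SectCmp f Δ) [QuasiCompact f] [QuasiSeparated f] (F : X.Modules)
    (hF : Coh.IsQCoh F) {V : Y.Opens} (hV : IsAffineOpen V) (p : ℕ) : Function.Bijective (E.ε V F p) :=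
  ε_bijective E V p F fun q => by
    have hq : Coh.IsQCoh ((Coh.Rpush f q).obj F) := RPushQC.isQCoh_rpush f F hF q
    haveI : ((Coh.Rpush f q).obj F).IsQuasicoherent := hq
    exact fun r => CohQC.hu_vanish_of_isAffineOpen _ hV r

end Groth.Agent.W7Gen
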