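import Groth.Agent.W7Gen.Push
import Groth.Agent.QC.Basic
set_option autoImplicit false
set_option backward.isDefEq.respectTransparency false
set_option linter.style.haveILetI false
universe u
open CategoryTheory CategoryTheory.Limits AlgebraicGeometry TopologicalSpace Opposite Abelian
open Groth.Agent.QC (res resO res_res res_self res_smul app_res)
noncomputable section
namespace Groth.Agent.W7Gen
variable {X Y Z : Scheme.{u}}
/-- `H^p(Y, M) → H^p(X, N)` along `r` and `φ : M ⟶ r_* N`. -/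
def PM (r : X ⟶ Y) {M : Y.Modules} {N : X.Modules} (φ : M ⟶ (Scheme.Modules.pushforward r).obj N) (p : ℕ) :
    Coh.HH Y M p →+ Coh.HH X N p :=
  PA r.base ((SheafOfModules.toSheaf Y.ringCatSheaf).map φ) p

lemma PM_pre (r : X ⟶ Y) {M M' : Y.Modules} {N : X.Modules} (a : M' ⟶ M)
    (φ : M ⟶ (Scheme.Modules.pushforward r).obj N) (p : ℕ) (x : Coh.HH Y M' p) :
    PM r φ p (CohPull.mapH a p x) = PM r (a ≫ φ) p x :=
  (PA_pre r.base _ _ p x).trans
    (congrArg (fun t => PA r.base t p x) ((SheafOfModules.toSheaf Y.ringCatSheaf).map_comp a φ).symm)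

lemma PM_post (r : X ⟶ Y) {M : Y.Modules} {N N' : X.Modules}
    (φ : M ⟶ (Scheme.Modules.pushforward r).obj N) (b : N ⟶ N') (p : ℕ) (x : Coh.HH Y M p) :
    CohPull.mapH b p (PM r φ p x) = PM r (φ ≫ (Scheme.Modules.pushforward r).map b) p x :=
  (PA_post r.base _ _ p x).trans
    (congrArg (fun t => PA r.base t p x)
      ((SheafOfModules.toSheaf Y.ringCatSheaf).map_comp φ ((Scheme.Modules.pushforward r).map b)).symm)

lemma PM_zero (r : X ⟶ Y) {M : Y.Modules} {N : X.Modules}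
    (φ : M ⟶ (Scheme.Modules.pushforward r).obj N) (x : Coh.HH Y M 0) :
    Sheaf.H.equiv₀ (Coh.toAb N) isTerminalTop (PM r φ 0 x) =
      φ.app ⊤ (Sheaf.H.equiv₀ (Coh.toAb M) isTerminalTop x) :=
  PA_zero r.base _ x

lemma map_eqToHom_self (P : X.Modules) {W : X.Opens} (e : W = W) (s : Γ(P, W)) :
    P.presheaf.map (eqToHom e).op s = s := by
  rw [eqToHom_refl, op_id, P.presheaf.map_id]
  rfl

lemma hom_ext_app {M N : Y.Modules} (φ φ' : M ⟶ N) (h : ∀ (W : Y.Opens) (s : Γ(M, W)), φ.app W s = φ'.app W s) :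
    φ = φ' :=
  Scheme.Modules.hom_ext _ _ fun W => ConcreteCategory.hom_ext _ _ fun s => h W s

lemma PM_congr {r r' : X ⟶ Y} (h : r = r') {M : Y.Modules} {N : X.Modules}
    (φ : M ⟶ (Scheme.Modules.pushforward r).obj N) (φ' : M ⟶ (Scheme.Modules.pushforward r').obj N)
    (hφ : ∀ (W : Y.Opens) (s : Γ(M, W)), φ'.app W s =
      N.presheaf.map (eqToHom (h ▸ rfl : r' ⁻¹ᵁ W = r ⁻¹ᵁ W)).op (φ.app W s)) (p : ℕ) :
    PM r φ p = PM r' φ' p := by
  subst h
  rw [show φ = φ' from hom_ext_app φ φ' fun W s => by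
    rw [hφ W s, eqToHom_refl, op_id, N.presheaf.map_id]
    rfl]

/-- `PM` along a composite, against a map with the same sections. -/
lemma PM_comp (a : X ⟶ Y) (b : Y ⟶ Z) (k : X ⟶ Z) (hk : a ≫ b = k) {M : Z.Modules} {N : Y.Modules}
    {P : X.Modules} (ψ : N ⟶ (Scheme.Modules.pushforward a).obj P)
    (φ : M ⟶ (Scheme.Modules.pushforward b).obj N) (χ : M ⟶ (Scheme.Modules.pushforward k).obj P)
    (hχ : ∀ (W : Z.Opens) (s : Γ(M, W)), χ.app W s =
      P.presheaf.map (eqToHom (hk ▸ rfl : k ⁻¹ᵁ W = a ⁻¹ᵁ (b ⁻¹ᵁ W))).op (ψ.app (b ⁻¹ᵁ W) (φ.app W s)))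
    (p : ℕ) (x : Coh.HH Z M p) :
    PM a ψ p (PM b φ p x) = PM k χ p x := by
  subst hk
  let χ' : M ⟶ (Scheme.Modules.pushforward (a ≫ b)).obj P :=
    φ ≫ (Scheme.Modules.pushforward b).map ψ ≫ (Scheme.Modules.pushforwardComp a b).hom.app P
  rw [show χ = χ' from hom_ext_app χ χ' fun W s =>
    (hχ W s).trans (map_eqToHom_self P _ _)]
  refine (PA_comp a.base b.base _ _ p x).trans ?_
  refine congrArg (fun t => PA (a.base ≫ b.base) t p x) ?_
  exact ObjectProperty.hom_ext _ (NatTrans.ext (funext fun W => ConcreteCategory.hom_ext _ _ fun s => rfl))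

end Groth.Agent.W7Gen
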