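import Groth.Agent.W7Gen.Desc
import Groth.Agent.W7Gen.PM
import Groth.Agent.W7Cech.BCSec
import Groth.Agent.W7Cech.Complex
import Groth.Agent.W7Hull.Edge
import Groth.Agent.CohQC.Relative
import Groth.Agent.ModDesc.Func
import Groth.Agent.TMul.AffineLocus

/-!
Pullback of cohomology along the base change of an affine base, through `M ↦ H^p(X, F ⊗_A M)`.
-/

set_option autoImplicit false
set_option backward.isDefEq.respectTransparency false
set_option backward.isDefEq.respectTransparency.types false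
set_option linter.style.haveILetI false

universe u

open CategoryTheory CategoryTheory.Limits AlgebraicGeometry TopologicalSpace Opposite
open Groth.Agent.QC (res resO res_res res_self res_smul app_res resO_resO resO_self)
open Groth.Agent.W7Cech (secA secRing unitSec pairing pairing_tmul pairing_bijective pairing_bijective_ring
  res_unitSec map_unitSec map_tm pullSec isBaseChange_pullSec resO_secRing secRing_comm isAffineHom_bc)
open scoped TensorProduct

noncomputable section

namespace Groth.Agent.W7Gen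

variable (A : Type u) [CommRing A] {X : Scheme.{u}} [X.Over (Spec (CommRingCat.of A))]

/-- `π^* M~`. -/
abbrev pt (M : ModuleCat.{u} A) : X.Modules :=
  (Scheme.Modules.pullback (X ↘ Spec (CommRingCat.of A))).obj (tilde M)

/-- The map `π^* M~ → P` given by elements of `Γ(P, ⊤)`. -/
def ptHom {M : ModuleCat.{u} A} {P : X.Modules}
    (ℓ : M ⟶ (CohIII.globalSectionsA A).obj P) : pt A M ⟶ P :=
  ((Scheme.Modules.pullbackPushforwardAdjunction (X ↘ Spec (CommRingCat.of A))).homEquiv _ _).symm
    (((tilde.adjunction (R := CommRingCat.of A)).homEquiv _ _).symm ℓ)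

theorem ptHom_unitSec {M : ModuleCat.{u} A} {P : X.Modules} (ℓ : M ⟶ (CohIII.globalSectionsA A).obj P)
    (W : X.Opens) (m : M) :
    (ptHom A ℓ).app W (unitSec A W M m) = res P (le_top : W ≤ ⊤) (show Γ(P, ⊤) from ℓ.hom m) := by
  let π := X ↘ Spec (CommRingCat.of A)
  let adj := Scheme.Modules.pullbackPushforwardAdjunction π
  let adjT := tilde.adjunction (R := CommRingCat.of A)
  let t := (adjT.homEquiv M ((Scheme.Modules.pushforward π).obj P)).symm ℓ
  have h1 : adj.unit.app (tilde M) ≫ (Scheme.Modules.pushforward π).map (ptHom A ℓ) = t :=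
    (adj.homEquiv_unit _ _ _).symm.trans (Equiv.apply_symm_apply _ _)
  have h2 : adjT.unit.app M ≫ (moduleSpecΓFunctor (R := CommRingCat.of A)).map t = ℓ :=
    (adjT.homEquiv_unit _ _ _).symm.trans (Equiv.apply_symm_apply _ _)
  have e1 : (ptHom A ℓ).app (π ⁻¹ᵁ ⊤) (OmegaSh.pullSect π (tilde M) ⊤ (W7Cech.gsec A M m)) =
      t.app ⊤ (W7Cech.gsec A M m) := congr(($h1).app ⊤ (W7Cech.gsec A M m))
  have e2 : t.app ⊤ (W7Cech.gsec A M m) = (show Γ(P, ⊤) from ℓ.hom m) := congr(($h2).hom m)
  exact (app_res (ptHom A ℓ) (show W ≤ π ⁻¹ᵁ ⊤ from le_top) _).symm.trans (congrArg (res P _) (e1.trans e2))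

theorem pt_hom_ext {M : ModuleCat.{u} A} {P : X.Modules} (φ φ' : pt A M ⟶ P)
    (h : ∀ m : M, φ.app ⊤ (unitSec A ⊤ M m) = φ'.app ⊤ (unitSec A ⊤ M m)) : φ = φ' := by
  let π := X ↘ Spec (CommRingCat.of A)
  apply ((Scheme.Modules.pullbackPushforwardAdjunction π).homEquiv _ _).injective
  apply ((tilde.adjunction (R := CommRingCat.of A)).homEquiv M ((Scheme.Modules.pushforward π).obj P)).injective
  refine ModuleCat.hom_ext (LinearMap.ext fun m => ?_)
  have key : ∀ ψ : pt A M ⟶ P,
      ((tilde.adjunction (R := CommRingCat.of A)).homEquiv M ((Scheme.Modules.pushforward π).obj P)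
        (((Scheme.Modules.pullbackPushforwardAdjunction π).homEquiv _ _) ψ)).hom m =
      ψ.app ⊤ (unitSec A ⊤ M m) := fun ψ => by
    rw [Adjunction.homEquiv_unit, Adjunction.homEquiv_unit]
    refine Eq.trans ?_ (congrArg (ψ.app ⊤) (Eq.symm (res_self (pt A M) (le_top : (⊤ : X.Opens) ≤ π ⁻¹ᵁ ⊤)
      (OmegaSh.pullSect π (tilde M) ⊤ (W7Cech.gsec A M m)))))
    rfl
  exact (key φ).trans ((h m).trans (key φ').symm)

variable {A} in
/-- Maps out of a tensor product agree if they agree on pure tensors. -/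
theorem tensor_hom_ext {M N P : X.Modules} (φ φ' : CohB1.tensorMod M N ⟶ P)
    (h : ∀ (W : X.Opens) (m : Γ(M, W)) (n : Γ(N, W)), φ.app W (TMul.tm m n) = φ'.app W (TMul.tm m n)) : φ = φ' := by
  refine hom_ext_app φ φ' fun W s => Groth.Agent.QC.section_eq_of_locally fun x hx => ?_
  obtain ⟨V, hV, p, hxV, hp⟩ := TMul.exists_tt s hx
  refine ⟨V, hV, hxV, ?_⟩
  rw [app_res, app_res, ← hp]
  clear hp
  induction p using TensorProduct.induction_on with
  | zero => rw [map_zero, map_zero, map_zero]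
  | tmul m n => exact h V m n
  | add p q hp' hq' => rw [map_add, map_add, map_add, hp' , hq']

section Square

variable (B : Type u) [CommRing B] [Algebra A B] {X' : Scheme.{u}}
  [X'.Over (Spec (CommRingCat.of B))] (g : X' ⟶ X)
  (sq : IsPullback g (X' ↘ Spec (CommRingCat.of B)) (X ↘ Spec (CommRingCat.of A))
    (Spec.map (CommRingCat.ofHom (algebraMap A B))))

/-- Elements of `B` as functions on `X'`, linearly over `A`. -/
def ellB : ModuleCat.of A B ⟶
    (CohIII.globalSectionsA A).obj ((Scheme.Modules.pushforward g).obj (Coh.structureModule X')) :=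
  (fun sq' : IsPullback g (X' ↘ Spec (CommRingCat.of B)) (X ↘ Spec (CommRingCat.of A))
      (Spec.map (CommRingCat.ofHom (algebraMap A B))) => ConcreteCategory.ofHom
    { toFun := fun b => (secRing B ⊤ b : Γ(X', ⊤))
      map_add' := fun b c => map_add (secRing B ⊤) b c
      map_smul' := fun a b => by
        have e : secRing A (⊤ : X.Opens) a = Coh.toGlobal (X ↘ Spec (CommRingCat.of A)) a := resO_self le_rfl _
        rw [Algebra.smul_def, map_mul]
        refine (congrArg (fun z : Γ(X', ⊤) => z * (secRing B ⊤ b : Γ(X', ⊤))) ((congrArg (g.app ⊤).hom e).symm.trans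
          (secRing_comm A B g sq' ⊤ a)).symm).trans ?_
        rfl }) sq

/-- `π^* B~ → g_* O`. -/
def tau : pt A (X := X) (ModuleCat.of A B) ⟶ (Scheme.Modules.pushforward g).obj (Coh.structureModule X') :=
  ptHom A (ellB A B g sq)

lemma tau_unitSec (W : X.Opens) (b : B) :
    ((tau A B g sq).app W (unitSec A W (ModuleCat.of A B) b) : Γ(X', g ⁻¹ᵁ W)) = secRing B (g ⁻¹ᵁ W) b :=
  (ptHom_unitSec A (ellB A B g sq) W b).trans (resO_secRing B _ b)

variable (F : X.Modules)

/-- The bilinear pairing `(r, s) ↦ τ r • g^* s`. -/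
def bil (W : X.Opens) : Γ(pt A (ModuleCat.of A B), W) →ₗ[Γ(X, W)] Γ(F, W) →ₗ[Γ(X, W)]
    Γ((Scheme.Modules.pushforward g).obj ((Scheme.Modules.pullback g).obj F), W) :=
  LinearMap.mk₂ Γ(X, W)
    (fun r s => ((show Γ(X', g ⁻¹ᵁ W) from (tau A B g sq).app W r) • OmegaSh.pullSect g F W s :
      Γ((Scheme.Modules.pullback g).obj F, g ⁻¹ᵁ W)))
    (fun r r' s => by rw [map_add]; exact add_smul (M := Γ((Scheme.Modules.pullback g).obj F, g ⁻¹ᵁ W)) _ _ _)
    (fun c r s => by
      rw [Scheme.Modules.Hom.app_smul]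
      exact mul_smul (β := Γ((Scheme.Modules.pullback g).obj F, g ⁻¹ᵁ W)) ((g.app W).hom c) (show Γ(X', g ⁻¹ᵁ W) from (tau A B g sq).app W r) _)
    (fun r s s' => by rw [map_add]; exact smul_add (A := Γ((Scheme.Modules.pullback g).obj F, g ⁻¹ᵁ W)) _ _ _)
    (fun c r s => by
      rw [OmegaSh.pullSect_smul]
      exact smul_comm (α := Γ((Scheme.Modules.pullback g).obj F, g ⁻¹ᵁ W)) _ _ _)

lemma bil_res {V W : X.Opens} (h : V ≤ W) (r : Γ(pt A (ModuleCat.of A B), W)) (s : Γ(F, W)) :
    res ((Scheme.Modules.pushforward g).obj ((Scheme.Modules.pullback g).obj F)) h (bil A B g sq F W r s) =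
      bil A B g sq F V (res _ h r) (res F h s) := by
  have a1 := app_res (tau A B g sq) h r
  have a2 : OmegaSh.pullSect g F V (res F h s) = res _ (g.preimage_mono h) (OmegaSh.pullSect g F W s) :=
    OmegaSh.pullSect_map g F h s
  change res ((Scheme.Modules.pullback g).obj F) (g.preimage_mono h) ((show Γ(X', g ⁻¹ᵁ W) from (tau A B g sq).app W r) • OmegaSh.pullSect g F W s) =
    (show Γ(X', g ⁻¹ᵁ V) from (tau A B g sq).app V (res _ h r)) • OmegaSh.pullSect g F V (res F h s)
  rw [res_smul, a2, ← a1]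
  rfl

/-- `F ⊗_A B → g_* g^* F`. -/
def uMap : (CohIII.tensorAFunctor A F).obj (ModuleCat.of A B) ⟶
    (Scheme.Modules.pushforward g).obj ((Scheme.Modules.pullback g).obj F) :=
  desc (bil A B g sq F) (bil_res A B g sq F)

lemma uMap_tm (W : X.Opens) (r : Γ(pt A (ModuleCat.of A B), W)) (s : Γ(F, W)) :
    (uMap A B g sq F).app W (TMul.tm r s) =
      ((show Γ(X', g ⁻¹ᵁ W) from (tau A B g sq).app W r) • OmegaSh.pullSect g F W s :
        Γ((Scheme.Modules.pullback g).obj F, g ⁻¹ᵁ W)) :=
  desc_tm (bil A B g sq F) (bil_res A B g sq F) r s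

lemma uMap_pairing (W : X.Opens) (s : Γ(F, W)) (b : B) :
    (uMap A B g sq F).app W (pairing A W (ModuleCat.of A B) ((show (secA A W).obj F from s) ⊗ₜ[A] b)) =
      (secRing B (g ⁻¹ᵁ W) b • OmegaSh.pullSect g F W s : Γ((Scheme.Modules.pullback g).obj F, g ⁻¹ᵁ W)) := by
  rw [pairing_tmul]
  refine (uMap_tm A B g sq F W _ s).trans ?_
  rw [tau_unitSec]

/-- Multiplication by `b`, on `ModuleCat.of A B`. -/
abbrev muB (b : B) : ModuleCat.of A B ⟶ ModuleCat.of A B := ModuleCat.ofHom (LinearMap.mulLeft A b)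

/-- `A → B`. -/
abbrev iotaB : ModuleCat.of A A ⟶ ModuleCat.of A B := ModuleCat.ofHom (Algebra.linearMap A B)

lemma tau_muB (b : B) (W : X.Opens) (r : Γ(pt A (ModuleCat.of A B), W)) :
    (show Γ(X', g ⁻¹ᵁ W) from (tau A B g sq).app W
      (((Scheme.Modules.pullback (X ↘ Spec (CommRingCat.of A))).map
        (tilde.map (R := CommRingCat.of A) (muB A B b))).app W r)) =
      secRing B (g ⁻¹ᵁ W) b * (show Γ(X', g ⁻¹ᵁ W) from (tau A B g sq).app W r) := by
  let c : Coh.structureModule X' ⟶ Coh.structureModule X' :=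
    TMul.homOf (L := Coh.structureModule X') (secRing B ⊤ b : Γ(X', ⊤))
  have hc : ∀ (V : X'.Opens) (z : Γ(X', V)),
      (show Γ(X', V) from c.app V z) = secRing B V b * z := fun V z => by
    refine (TMul.app_eq_smul c z).trans ?_
    rw [TMul.val_homOf]
    exact (mul_comm (G := Γ(X', V)) _ _).trans (congrArg (· * z) (resO_secRing B (le_top : V ≤ ⊤) b))
  have h : (Scheme.Modules.pullback (X ↘ Spec (CommRingCat.of A))).map
      (tilde.map (R := CommRingCat.of A) (muB A B b)) ≫ tau A B g sq =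
      tau A B g sq ≫ (Scheme.Modules.pushforward g).map c := pt_hom_ext A _ _ fun m => by
    change (tau A B g sq).app ⊤ (((Scheme.Modules.pullback _).map _).app ⊤ (unitSec A ⊤ _ m)) =
      c.app (g ⁻¹ᵁ ⊤) ((tau A B g sq).app ⊤ (unitSec A ⊤ _ m))
    refine ((congrArg ((tau A B g sq).app ⊤) (map_unitSec A ⊤ (muB A B b) m)).trans
      (tau_unitSec A B g sq ⊤ _)).trans ?_
    refine Eq.trans ?_ (congrArg (c.app (g ⁻¹ᵁ ⊤)) (tau_unitSec A B g sq ⊤ m)).symm
    exact (map_mul (secRing B (g ⁻¹ᵁ ⊤)) b m).trans (hc _ _).symm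
  exact (congr(($h).app W r)).trans (hc (g ⁻¹ᵁ W) _)

/-- Multiplication by `b` corresponds to scalar multiplication. -/
lemma uMap_muB (b : B) (W : X.Opens) (z : Γ((CohIII.tensorAFunctor A F).obj (ModuleCat.of A B), W)) :
    (show Γ((Scheme.Modules.pullback g).obj F, g ⁻¹ᵁ W) from
      (uMap A B g sq F).app W (((CohIII.tensorAFunctor A F).map (muB A B b)).app W z)) =
      secRing B (g ⁻¹ᵁ W) b •
        (show Γ((Scheme.Modules.pullback g).obj F, g ⁻¹ᵁ W) from (uMap A B g sq F).app W z) := by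
  let G := (Scheme.Modules.pullback g).obj F
  refine Groth.Agent.QC.section_eq_of_locally (M := G) (U := g ⁻¹ᵁ W) fun x hx => ?_
  obtain ⟨V, hV, p, hxV, hp⟩ := TMul.exists_tt (M := pt A (ModuleCat.of A B)) (N := F) z
    (show g x ∈ W from hx)
  refine ⟨g ⁻¹ᵁ V, g.preimage_mono hV, hxV, ?_⟩
  rw [res_smul, resO_secRing]
  have a1 := app_res (uMap A B g sq F) hV z
  have a2 := app_res (uMap A B g sq F) hV (((CohIII.tensorAFunctor A F).map (muB A B b)).app W z)
  have a3 := app_res ((CohIII.tensorAFunctor A F).map (muB A B b)) hV z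
  refine a2.trans ((congrArg ((uMap A B g sq F).app V) (a3.trans (congrArg _ hp.symm))).trans ?_)
  refine Eq.trans ?_ (congrArg (fun y : Γ(G, g ⁻¹ᵁ V) => secRing B (g ⁻¹ᵁ V) b • y)
    (a1.trans (congrArg ((uMap A B g sq F).app V) hp.symm))).symm
  clear hp a1 a2 a3
  induction p using TensorProduct.induction_on with
  | zero =>
    simp only [map_zero]
    exact (smul_zero (A := Γ(G, g ⁻¹ᵁ V)) _).symm
  | tmul r s =>
    rw [TMul.tt_tmul]
    refine (congrArg ((uMap A B g sq F).app V) (map_tm _ F r s)).trans ?_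
    refine (uMap_tm A B g sq F V _ s).trans ?_
    refine Eq.trans ?_ (congrArg (fun y : Γ(G, g ⁻¹ᵁ V) => secRing B (g ⁻¹ᵁ V) b • y)
      (uMap_tm A B g sq F V r s)).symm
    refine (congrArg (fun c : Γ(X', g ⁻¹ᵁ V) => c • OmegaSh.pullSect g F V s) (tau_muB A B g sq b V r)).trans ?_
    exact mul_smul (β := Γ(G, g ⁻¹ᵁ V)) _ _ _
  | add p q hp' hq' =>
    simp only [map_add]
    exact (congrArg₂ (fun u v : Γ(G, g ⁻¹ᵁ V) => u + v) hp' hq').trans (smul_add (A := Γ(G, g ⁻¹ᵁ V)) _ _ _).symm

/-- Elements of `A` as functions on `X`. -/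
def ellA : ModuleCat.of A A ⟶ (CohIII.globalSectionsA A).obj (Coh.structureModule X) :=
  ConcreteCategory.ofHom
    { toFun := fun a => (secRing A ⊤ a : Γ(X, ⊤))
      map_add' := fun a c => map_add (secRing A ⊤) a c
      map_smul' := fun a c => by
        have e : secRing A (⊤ : X.Opens) a = Coh.toGlobal (X ↘ Spec (CommRingCat.of A)) a := resO_self le_rfl _
        rw [smul_eq_mul, map_mul]
        refine (congrArg (fun z : Γ(X, ⊤) => z * (secRing A ⊤ c : Γ(X, ⊤))) e).trans ?_
        rfl }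

/-- `π^* A~ → O`. -/
def rho : pt A (X := X) (ModuleCat.of A A) ⟶ Coh.structureModule X := ptHom A (ellA A)

lemma rho_unitSec (W : X.Opens) (a : A) :
    (show Γ(X, W) from (rho A).app W (unitSec A W (ModuleCat.of A A) a)) = secRing A W a := by
  exact (ptHom_unitSec A (ellA A) W a).trans (resO_secRing A _ a)

include sq in
lemma tau_iota (W : X.Opens) (r : Γ(pt A (ModuleCat.of A A), W)) :
    (show Γ(X', g ⁻¹ᵁ W) from (tau A B g sq).app W
      (((Scheme.Modules.pullback (X ↘ Spec (CommRingCat.of A))).map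
        (tilde.map (R := CommRingCat.of A) (iotaB A B))).app W r)) =
      (g.app W).hom (show Γ(X, W) from (rho A).app W r) := by
  let j : Coh.structureModule X ⟶ (Scheme.Modules.pushforward g).obj (Coh.structureModule X') :=
    SheafOfModules.unitToPushforwardObjUnit g.toRingCatSheafHom
  have h : (Scheme.Modules.pullback (X ↘ Spec (CommRingCat.of A))).map
      (tilde.map (R := CommRingCat.of A) (iotaB A B)) ≫ tau A B g sq = rho A ≫ j := pt_hom_ext A _ _ fun m => by
    change (tau A B g sq).app ⊤ (((Scheme.Modules.pullback _).map _).app ⊤ (unitSec A ⊤ _ m)) =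
      j.app ⊤ ((rho A).app ⊤ (unitSec A ⊤ _ m))
    refine ((congrArg ((tau A B g sq).app ⊤) (map_unitSec A ⊤ (iotaB A B) m)).trans
      (tau_unitSec A B g sq ⊤ _)).trans ?_
    refine Eq.trans ?_ (congrArg (j.app ⊤) (rho_unitSec A ⊤ m)).symm
    exact (secRing_comm A B g sq ⊤ m).symm
  exact congr(($h).app W r)

/-- The pairing `(r, s) ↦ ρ r • s`. -/
def bilA (W : X.Opens) : Γ(pt A (ModuleCat.of A A), W) →ₗ[Γ(X, W)] Γ(F, W) →ₗ[Γ(X, W)] Γ(F, W) :=
  LinearMap.mk₂ Γ(X, W) (fun r s => ((show Γ(X, W) from (rho A).app W r) • s : Γ(F, W)))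
    (fun r r' s => by rw [map_add]; exact add_smul (M := Γ(F, W)) _ _ _)
    (fun c r s => by rw [Scheme.Modules.Hom.app_smul]; exact mul_smul (β := Γ(F, W)) c _ s)
    (fun r s s' => smul_add _ _ _) (fun c r s => smul_comm _ _ _)

lemma bilA_res {V W : X.Opens} (h : V ≤ W) (r : Γ(pt A (ModuleCat.of A A), W)) (s : Γ(F, W)) :
    res F h (bilA A F W r s) = bilA A F V (res _ h r) (res F h s) := by
  have a1 := app_res (rho A (X := X)) h r
  change res F h ((show Γ(X, W) from (rho A).app W r) • s) =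
    (show Γ(X, V) from (rho A).app V (res _ h r)) • res F h s
  rw [res_smul, ← a1]
  rfl

/-- `F ⊗_A A → F`. -/
def dMap : (CohIII.tensorAFunctor A F).obj (ModuleCat.of A A) ⟶ F := desc (bilA A F) (bilA_res A F)

lemma dMap_tm (W : X.Opens) (r : Γ(pt A (ModuleCat.of A A), W)) (s : Γ(F, W)) :
    (dMap A F).app W (TMul.tm r s) = ((show Γ(X, W) from (rho A).app W r) • s : Γ(F, W)) := by
  exact desc_tm (bilA A F) (bilA_res A F) r s

/-- `F → F ⊗_A B → g_* g^* F` is the unit. -/
lemma uMap_iota : (CohIII.tensorAFunctor A F).map (iotaB A B) ≫ uMap A B g sq F =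
    dMap A F ≫ (Scheme.Modules.pullbackPushforwardAdjunction g).unit.app F :=
  tensor_hom_ext _ _ fun W r s => by
    change (uMap A B g sq F).app W (((CohIII.tensorAFunctor A F).map (iotaB A B)).app W (TMul.tm r s)) =
      OmegaSh.pullSect g F W ((dMap A F).app W (TMul.tm r s))
    rw [dMap_tm, OmegaSh.pullSect_smul, ← tau_iota A B g sq]
    exact (congrArg ((uMap A B g sq F).app W) (map_tm _ F r s)).trans (uMap_tm A B g sq F W _ s)

lemma isIso_dMap (hF : Coh.IsQCoh F) : IsIso (dMap A F) :=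
  ModDesc.isIso_of_affine_cover (W7Cech.isQCoh_tensorAFunctor A F hF _) hF (dMap A F)
    (fun V : X.affineOpens => V.1) (fun V => V.2)
    (fun x => by
      obtain ⟨V, hV, hx, -⟩ := exists_isAffineOpen_mem_and_subset (X := X) (x := x) (U := ⊤) trivial
      exact ⟨⟨V, hV⟩, hx⟩) fun V => by
    have hb := pairing_bijective_ring A V.1 (F := F)
    have h : (dMap A F).app V.1 ∘ pairing A V.1 (ModuleCat.of A A) =
        TensorProduct.rid A ((secA A V.1).obj F : Type u) := by
      funext z
      induction z using TensorProduct.induction_on with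
      | zero => simp only [Function.comp_apply, map_zero]
      | tmul s a =>
        rw [Function.comp_apply, TensorProduct.rid_tmul]
        refine (congrArg ((dMap A F).app V.1) (pairing_tmul A V.1 _ s a)).trans ?_
        refine (dMap_tm A F V.1 _ s).trans ?_
        rw [rho_unitSec]
        rfl
      | add p q hp hq =>
        simp only [Function.comp_apply, map_add] at hp hq ⊢
        exact congrArg₂ (· + ·) hp hq
    exact (Function.Bijective.of_comp_iff _ hb).1 (h ▸ LinearEquiv.bijective _)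

include sq in
lemma isIso_uMap (hF : Coh.IsQCoh F) : IsIso (uMap A B g sq F) := by
  haveI := isAffineHom_bc A B g sq
  haveI : ((Scheme.Modules.pullback g).obj F).IsQuasicoherent := QC.isQCoh_pullback g hF
  refine ModDesc.isIso_of_affine_cover (W7Cech.isQCoh_tensorAFunctor A F hF _)
    (QC.isQCoh_pushforward g) (uMap A B g sq F) (fun V : X.affineOpens => V.1) (fun V => V.2)
    (fun x => by
      obtain ⟨V, hV, hx, -⟩ := exists_isAffineOpen_mem_and_subset (X := X) (x := x) (U := ⊤) trivial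
      exact ⟨⟨V, hV⟩, hx⟩) fun V => ?_
  let N₀ : ModuleCat.{u} B := (secA B (g ⁻¹ᵁ V.1)).obj ((Scheme.Modules.pullback g).obj F)
  letI : Module A N₀ := Module.compHom N₀ (algebraMap A B)
  haveI : IsScalarTower A B N₀ := IsScalarTower.of_algebraMap_smul fun _ _ => rfl
  have hbc := isBaseChange_pullSec A B g sq hF V.2
  have hb := pairing_bijective A V.1 V.2 hF (ModuleCat.of A B)
  let e : ((secA A V.1).obj F : Type u) ⊗[A] B ≃+ (N₀ : Type u) :=
    (TensorProduct.comm A _ B).toAddEquiv.trans hbc.equiv.toAddEquiv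
  have h : (uMap A B g sq F).app V.1 ∘ pairing A V.1 (ModuleCat.of A B) = e := by
    funext z
    induction z using TensorProduct.induction_on with
    | zero => simp only [Function.comp_apply, map_zero]
    | tmul s b =>
      rw [Function.comp_apply]
      refine (uMap_pairing A B g sq F V.1 s b).trans ?_
      exact (hbc.equiv_tmul b s).symm
    | add p q hp hq =>
      simp only [Function.comp_apply, map_add] at hp hq ⊢
      exact congrArg₂ (· + ·) hp hq
  exact (Function.Bijective.of_comp_iff _ hb).1 (h ▸ e.bijective)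

lemma PM_id_eq_edge (G : X'.Modules) (p : ℕ) (y : Coh.HH X ((Scheme.Modules.pushforward g).obj G) p) :
    PM g (𝟙 ((Scheme.Modules.pushforward g).obj G)) p y = W7Hull.edgeAb g.base (Coh.toAb G) p y := by
  refine (PA_apply _ _ p y).trans ?_
  refine congrArg (fun t => Sheaf.H.map t p (CohPull.pullAb g.base _ p y)) ?_
  refine (congrArg ((CohPull.invPushAdj g.base).homEquiv _ _).symm
    ((SheafOfModules.toSheaf X.ringCatSheaf).map_id _)).trans ?_
  exact (CohPull.invPushAdj g.base).homEquiv_counit _ _ _ |>.trans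
    ((congrArg (· ≫ _) ((CohPull.inv g.base).map_id _)).trans (Category.id_comp _))

/-- `H^p(X, F ⊗_A B) → H^p(X', g^* F)`. -/
def eMap (p : ℕ) : Coh.HH X ((CohIII.tensorAFunctor A F).obj (ModuleCat.of A B)) p →+
    Coh.HH X' ((Scheme.Modules.pullback g).obj F) p :=
  PM g (uMap A B g sq F) p

include sq in
theorem eMap_bijective (hF : Coh.IsQCoh F) (p : ℕ) : Function.Bijective (eMap A B g sq F p) := by
  haveI := isIso_uMap A B g sq F hF
  haveI := isAffineHom_bc A B g sq
  haveI : ((Scheme.Modules.pullback g).obj F).IsQuasicoherent := QC.isQCoh_pullback g hF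
  have h : ⇑(eMap A B g sq F p) = W7Hull.edgeAb g.base (Coh.toAb ((Scheme.Modules.pullback g).obj F)) p ∘
      CohFinite.hhEquiv A (asIso (uMap A B g sq F)) p := funext fun x => by
    refine Eq.trans ?_ (PM_id_eq_edge g _ p _)
    refine Eq.trans ?_ (PM_pre g (uMap A B g sq F) (𝟙 _) p x).symm
    exact congrArg (fun t => PM g t p x) (Category.comp_id _).symm
  rw [h]
  exact (W7Hull.edgeAb_bijective g.base p _ (fun q => CohQC.locKilled_of_isAffineHom g _ (Nat.le_add_left 1 q))).comp
    (LinearEquiv.bijective _)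

end Square

end Groth.Agent.W7Gen
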