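import Groth.Agent.W7Gen.Points
import Groth.Agent.W7Cech.NNStatements
import Groth.Agent.LocFree.Props
import Groth.Agent.FibVan.Top

/-!
Linear algebra of good opens.
-/

set_option autoImplicit false
set_option backward.isDefEq.respectTransparency false
set_option linter.style.haveILetI false
set_option maxHeartbeats 800000

universe u

open CategoryTheory CategoryTheory.Limits AlgebraicGeometry TopologicalSpace Opposite
open Groth.Agent.W7Cech (ModelNN nonempty_ModelNN flatX)
open Groth.Agent.FlatCx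

noncomputable section

namespace Groth.Agent.W7Gen

variable {X S : Scheme.{u}} (f : X ⟶ S) [HasInjectiveResolutions X.Modules] {F : X.Modules}

variable {V : S.Opens} {hV : IsAffineOpen V} (m : ModelNN f F hV)

/-- Flat next opcycles, as exactness on the right. -/
lemma flat_iff_epi (p : ℤ) :
    (CohIII.TFun m.L p).PreservesEpimorphisms ↔
      Module.Flat Γ(S, V) (Opc m.L p ((ComplexShape.up ℤ).next p)) :=
  preservesEpi_iff_flat_opc m.L p (flatX m.L m.hL) (W7Cech.up_prev_next p)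

/-- Right exactness in degree `p` is left exactness in degree `p + 1`. -/
lemma flat_iff_mono_succ (p : ℕ) :
    (CohIII.TFun m.L ((p + 1 : ℕ) : ℤ)).PreservesMonomorphisms ↔
      Module.Flat Γ(S, V) (Opc m.L (p : ℤ) ((ComplexShape.up ℤ).next (p : ℤ))) := by
  rw [← flat_iff_epi f m (p : ℤ), Nat.cast_succ]
  exact (W7Cech.T_epi_iff_mono_succ m.L (flatX m.L m.hL) (p : ℤ)).symm

/-- Degree zero is left exact. -/
lemma preservesMono_zero : (CohIII.TFun m.L ((0 : ℕ) : ℤ)).PreservesMonomorphisms := by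
  have h := (W7Cech.T_epi_iff_mono_succ m.L (flatX m.L m.hL) (-1 : ℤ)).1
    (W7Cech.isZero_T_of_isZero_homology_all m.L (fun M => m.hneg (-1) (by omega) M)).2
  simpa using h

section

variable [IsProper f] [LocallyOfFinitePresentation f] (hq : Coh.IsQCoh F) (hF : CohB1.IsFP F)
  (hfl : FlatMod.IsFlatOver f F)

omit [IsProper f] [LocallyOfFinitePresentation f] in
/-- Vanishing fibre cohomology: good, and exact. -/
lemma good_of_vanish (p : ℕ) (U : S.Opens) (h : ∀ y ∈ U, Subsingleton (CohIII.fiberH f F y p)) :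
    Good f F p U ∧ ∀ j : ℕ, j + 1 = p → Good f F j U := by
  refine ⟨fun V hV hle m => (flat_iff_epi f m p).1
      (W7Cech.isZero_T_of_isZero_homology_all m.L (m.isZero_T f p fun y hy => h y (hle hy))).2,
    fun j hj V hV hle m => (flat_iff_mono_succ f m j).1 ?_⟩
  subst hj
  exact (W7Cech.isZero_T_of_isZero_homology_all m.L (m.isZero_T f (j + 1) fun y hy => h y (hle hy))).1

include hq hF hfl in
/-- Exactness on small affines gives local freeness, of the fibre rank. -/
theorem locFree_of_exact (p : ℕ) (W : S.Opens)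
    (h : ∀ (V : S.Opens) (hV : IsAffineOpen V), V ≤ W → ∀ m : ModelNN f F hV,
      (CohIII.TFun m.L (p : ℤ)).PreservesMonomorphisms ∧ (CohIII.TFun m.L (p : ℤ)).PreservesEpimorphisms) :
    FlatMod.IsFinLocFree (((Coh.Rpush f p).obj F).restrict W.ι) :=
  W7Cech.isFinLocFree_restrict_of_local _ W fun y hy => by
    obtain ⟨U, hyU, -, hU⟩ := W7Cech.locFree_of_good_nn f hq hF hfl p W (fun V hV hle m =>
      W7Cech.good_of_exact m.L m.hL p (h V hV hle m).1 (h V hV hle m).2) y hy
    exact ⟨U, _, hyU, hU⟩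

include hq hF hfl in
/-- Exactness makes the fibre rank locally constant. -/
theorem isLocallyConstant_of_exact (p : ℕ) (W : S.Opens)
    (h : ∀ (V : S.Opens) (hV : IsAffineOpen V), V ≤ W → ∀ m : ModelNN f F hV,
      (CohIII.TFun m.L (p : ℤ)).PreservesMonomorphisms ∧ (CohIII.TFun m.L (p : ℤ)).PreservesEpimorphisms) :
    IsLocallyConstant (fun v : W => CohIII.fiberRank f F p v.1) := by
  rw [IsLocallyConstant.iff_exists_open]
  intro v
  obtain ⟨V, hV, hv, hle⟩ := exists_isAffineOpen_mem_and_subset (X := S) (x := v.1) (U := W) v.2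
  obtain ⟨m⟩ := nonempty_ModelNN f hq hF hfl hV
  obtain ⟨hfl', hfp', hr⟩ := W7Cech.good_of_exact m.L m.hL p (h V hV hle m).1 (h V hV hle m).2
  haveI := hfl'
  haveI := hfp'
  let x := hV.primeIdealOf ⟨v.1, hv⟩
  obtain ⟨O, hO, hxO, hOc⟩ := (IsLocallyConstant.iff_exists_open _).1
    (Module.isLocallyConstant_rankAtStalk (R := Γ(S, V)) (M := Hm m.L (p : ℤ))) x
  refine ⟨Subtype.val ⁻¹' (hV.fromSpec '' O),
    (hV.fromSpec.isOpenEmbedding.isOpenMap O hO).preimage continuous_subtype_val,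
    ⟨x, hxO, hV.fromSpec_primeIdealOf ⟨v.1, hv⟩⟩, fun w hw => ?_⟩
  obtain ⟨x', hx', hw'⟩ := hw
  change CohIII.fiberRank f F p w.1 = CohIII.fiberRank f F p v.1
  rw [← hw', ← show hV.fromSpec x = v.1 from hV.fromSpec_primeIdealOf ⟨v.1, hv⟩, m.hrk, m.hrk, hr, hr]
  exact hOc x' hx'

include hq hF hfl in
/-- Exactness on all affines gives local freeness. -/
theorem isFinLocFree_of_exact (p : ℕ)
    (h : ∀ (V : S.Opens) (hV : IsAffineOpen V) (m : ModelNN f F hV),
      (CohIII.TFun m.L (p : ℤ)).PreservesMonomorphisms ∧ (CohIII.TFun m.L (p : ℤ)).PreservesEpimorphisms) :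
    FlatMod.IsFinLocFree ((Coh.Rpush f p).obj F) := fun y => by
  obtain ⟨U, hyU, -, hU⟩ := W7Cech.locFree_of_good_nn f hq hF hfl p ⊤ (fun V hV _ m =>
    W7Cech.good_of_exact m.L m.hL p (h V hV m).1 (h V hV m).2) y trivial
  exact ⟨U, _, hyU, hU⟩

end

/-- Free sections on small affines from a locally free restriction. -/
theorem exists_free_of_isFinLocFree_restrict {R : S.Modules} {W : S.Opens}
    (h : FlatMod.IsFinLocFree (R.restrict W.ι)) {y : S} (hy : y ∈ W) :
    ∃ U : S.Opens, y ∈ U ∧ U ≤ W ∧ ∀ D : S.Opens, IsAffineOpen D → D ≤ U → Module.Free Γ(S, D) Γ(R, D) := by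
  obtain ⟨U₁, n, hyU, ⟨e⟩⟩ := h ⟨y, hy⟩
  refine ⟨W.ι ''ᵁ U₁, ⟨⟨y, hy⟩, hyU, rfl⟩, ?_, fun D hD hle => ?_⟩
  · rintro _ ⟨x, -, rfl⟩
    exact x.2
  have hDW : D ≤ W := fun x hx => by
    obtain ⟨x', -, rfl⟩ := hle hx
    exact x'.2
  let A := W.ι ⁻¹ᵁ D
  have himg : W.ι ''ᵁ A = D := by
    rw [Scheme.Hom.image_preimage_eq_opensRange_inf, Scheme.Opens.opensRange_ι, inf_eq_right.2 hDW]
  have hA : IsAffineOpen A := hD.preimage_of_isOpenImmersion W.ι (by rw [Scheme.Opens.opensRange_ι]; exact hDW)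
  have hAU : A ≤ U₁ := fun x hx => by
    obtain ⟨x', hx', hx''⟩ := hle hx
    rwa [← W.ι.isOpenEmbedding.injective hx'']
  haveI : Module.Free Γ((W : Scheme.{u}), A) Γ(R.restrict W.ι, A) := (LocFree.free_sections_of_le e hA hAU).1
  rw [← himg]
  let eR : Γ((W : Scheme.{u}), A) ≃+* Γ(S, W.ι ''ᵁ A) := (W.ι.appIso A).symm.commRingCatIsoToRingEquiv
  letI := RingHomInvPair.of_ringEquiv eR
  letI := RingHomInvPair.of_ringEquiv eR.symm
  let e' : Γ(R.restrict W.ι, A) ≃ₛₗ[RingHomClass.toRingHom eR] Γ(R, W.ι ''ᵁ A) :=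
    { AddEquiv.refl Γ(R, W.ι ''ᵁ A) with map_smul' := fun c m => rfl }
  exact Module.Free.of_equiv e'

omit [HasInjectiveResolutions X.Modules] in
/-- Cohomology of the fibres vanishes above their dimension. -/
theorem subsingleton_fiberH_of_dim [IsProper f] (hq : Coh.IsQCoh F) (d : ℕ) (s : S)
    (hd : topologicalKrullDim (f.fiber s) ≤ d) (p : ℕ) (hp : d < p) : Subsingleton (CohIII.fiberH f F s p) := by
  haveI : IsProper (f.fiberToSpecResidueField s) :=
    MorphismProperty.of_isPullback (P := @IsProper) (IsPullback.of_hasPullback f (S.fromSpecResidueField s))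
      inferInstance
  refine FibVan.subsingleton_hh_affine (f.fiberToSpecResidueField s) d (fun a => ?_) _
    (QC.isQCoh_pullback _ hq) p hp
  refine le_trans ?_ hd
  rw [IsHomeomorph.topologicalKrullDim_eq _ ((f.fiberToSpecResidueField s).fiberHomeo a).isHomeomorph]
  exact Topology.IsEmbedding.subtypeVal.isInducing.topologicalKrullDim_le

end Groth.Agent.W7Gen
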