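import Groth.Agent.W7Gen.Maps
import Groth.Agent.CohQC.Flasque
import Groth.Agent.CohQC.ToSheafExact
import Groth.Agent.RPushQC.Acyclic
import Groth.Agent.SiteCoh.Terminal
import Groth.Agent.SiteCoh.DirectTop
import Groth.Agent.PinchQC.Basic
import Groth.Agent.TMul.GlobGen

/-!
The comparison `CohCmp.SectCmp` under restriction, and its local bijectivity.
-/

set_option autoImplicit false
set_option backward.isDefEq.respectTransparency false
set_option linter.style.haveILetI false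

universe u

open CategoryTheory CategoryTheory.Limits AlgebraicGeometry TopologicalSpace Opposite Abelian
open Groth.Agent.QC (res resO res_res res_self res_smul app_res)

noncomputable section

namespace Groth.Agent.W7Gen

variable {X Y : Scheme.{u}}

instance toAbOn_preservesFiniteLimits (U : X.Opens) : PreservesFiniteLimits (CohCmp.toAbOn X U) := by
  haveI : PreservesFiniteLimits (SheafOfModules.toSheaf U.toScheme.ringCatSheaf) := inferInstance
  exact comp_preservesFiniteLimits _ _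

instance toAbOn_preservesFiniteColimits (U : X.Opens) : PreservesFiniteColimits (CohCmp.toAbOn X U) := by
  haveI : PreservesFiniteColimits (SheafOfModules.toSheaf U.toScheme.ringCatSheaf) :=
    CohQC.toSheaf_preservesFiniteColimits _
  exact comp_preservesFiniteColimits _ _

lemma restr_shortExact {S : ShortComplex X.Modules} (hS : S.ShortExact) (U : X.Opens) :
    (S.map (CohCmp.toAbOn X U)).ShortExact :=
  hS.map_of_exact _

lemma subsingleton_HHon_injective (I : X.Modules) [Injective I] (U : X.Opens) (p : ℕ) :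
    Subsingleton (Coh.HHon X I U (p + 1)) := by
  have hfl : RPushQC.IsFlasque (I.restrict U.ι) :=
    RPushQC.isFlasque_restrict (RPushQC.isFlasque_of_injective I) U.ι
  haveI := RPushQC.isFlasque_toAb hfl
  haveI : Subsingleton (CohSite.HU (Coh.toAb (I.restrict U.ι)) (p + 1) (⊤ : Opens U.toScheme)) :=
    SiteCoh.flasque_acyclic (Coh.toAb (I.restrict U.ι)) ⊤ p
  exact (SiteCoh.huTerminalEquiv (Opens.grothendieckTopology U.toScheme) isTerminalTop _ (p + 1)).toEquiv.subsingleton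

variable [HasInjectiveResolutions X.Modules]

/-- A short exact sequence `0 → F → I → Q → 0` with `I` injective. -/
def emb (F : X.Modules) : ShortComplex X.Modules :=
  ShortComplex.mk ((injectiveResolution F).ι.f 0) (cokernel.π _) (cokernel.condition _)

lemma emb_shortExact (F : X.Modules) : (emb F).ShortExact where
  exact := ShortComplex.exact_of_g_is_cokernel _ (cokernelIsCokernel _)
  mono_f := inferInstanceAs (Mono ((injectiveResolution F).ι.f 0))
  epi_g := inferInstanceAs (Epi (cokernel.π _))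

instance emb_injective (F : X.Modules) : Injective (emb F).X₂ :=
  (injectiveResolution F).injective 0

/-- Every class of positive degree is a connecting image. -/
lemma exists_extδ (F : X.Modules) (U : X.Opens) (p : ℕ) (x : Coh.HHon X F U (p + 1)) :
    ∃ y : Coh.HHon X (emb F).X₃ U p,
      CohCmp.extδ (restr_shortExact (emb_shortExact F) U) p y = x := by
  haveI : Subsingleton (Sheaf.H ((emb F).map (CohCmp.toAbOn X U)).X₂ (p + 1)) :=
    subsingleton_HHon_injective (emb F).X₂ U p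
  exact (CohFinite.map_f_eq_zero_iff (restr_shortExact (emb_shortExact F) U) p x).1 (Subsingleton.elim _ _)

lemma sectH0_surjective (F : X.Modules) (U : X.Opens) (x : Coh.HHon X F U 0) :
    ∃ s, CohPull.sectH0 F U s = x := (CohPull.sectH0 F U).surjective x

variable {f : X ⟶ Y} {Δ : RDer.DerivedLES (Scheme.Modules.pushforward f)}

/-- The comparison commutes with restriction. -/
theorem ε_res (E : CohCmp.SectCmp f Δ) : ∀ (p : ℕ) (F : X.Modules) {V W : Y.Opens} (h : W ≤ V)
    {h' : f ⁻¹ᵁ W ≤ f ⁻¹ᵁ V} (x : Coh.HHon X F (f ⁻¹ᵁ V) p),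
    E.ε W F p (CohPull.resLE (U := f ⁻¹ᵁ V) (U' := f ⁻¹ᵁ W) F h' p x) =
      res ((Coh.Rpush f p).obj F) h (E.ε V F p x) := by
  intro p
  induction p with
  | zero =>
    intro F V W h h' x
    obtain ⟨s, rfl⟩ := sectH0_surjective F _ x
    rw [resLE_sectH0, E.zero, E.zero]
    exact (app_res (((Scheme.Modules.pushforward f).toRightDerivedZero.app F)) h s).symm
  | succ p ih =>
    intro F V W h h' x
    obtain ⟨y, rfl⟩ := exists_extδ F _ p x
    have hS := emb_shortExact F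
    have e1 := resLE_extδ (U := f ⁻¹ᵁ V) (U' := f ⁻¹ᵁ W) h' (emb F) (restr_shortExact hS (f ⁻¹ᵁ V))
      (restr_shortExact hS (f ⁻¹ᵁ W)) p y
    have e2 := E.delta W (emb F) hS (restr_shortExact hS (f ⁻¹ᵁ W)) p
      (CohPull.resLE (U := f ⁻¹ᵁ V) (U' := f ⁻¹ᵁ W) (emb F).X₃ h' p y)
    have e3 := E.delta V (emb F) hS (restr_shortExact hS (f ⁻¹ᵁ V)) p y
    have e4 := ih (emb F).X₃ h (h' := h') y
    refine (congrArg (E.ε W _ (p + 1)) e1).trans (e2.trans ?_)
    refine (congrArg ((Δ.δ (emb F) hS p (p + 1) rfl).app W) e4).trans ?_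
    exact (app_res (Δ.δ (emb F) hS p (p + 1) rfl) h _).symm.trans (congrArg (res _ h) e3.symm)

/-- In degree zero the comparison is bijective. -/
theorem ε_zero_bijective (E : CohCmp.SectCmp f Δ) (V : Y.Opens) (F : X.Modules) :
    Function.Bijective (E.ε V F 0) := by
  haveI : IsIso ((Scheme.Modules.pushforward f).toRightDerivedZero.app F) := inferInstance
  have hb := ConcreteCategory.bijective_of_isIso
    (Scheme.Modules.Hom.app ((Scheme.Modules.pushforward f).toRightDerivedZero.app F) V)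
  refine ⟨fun a b hab => ?_, fun t => ?_⟩
  · obtain ⟨s, rfl⟩ := sectH0_surjective F _ a
    obtain ⟨s', rfl⟩ := sectH0_surjective F _ b
    rw [E.zero, E.zero] at hab
    rw [hb.1 hab]
  · obtain ⟨s, hs⟩ := hb.2 t
    exact ⟨CohPull.sectH0 F _ s, (E.zero V F s).trans hs⟩

lemma isZero_rpush_injective (I : X.Modules) [Injective I] (p : ℕ) : IsZero ((Coh.Rpush f (p + 1)).obj I) :=
  Functor.isZero_rightDerived_obj_injective_succ _ p I

/-- Sections over an open, to abelian groups. -/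
abbrev secF (Y : Scheme.{u}) (V : Y.Opens) : Y.Modules ⥤ AddCommGrpCat.{u} :=
  SheafOfModules.toSheaf Y.ringCatSheaf ⋙ sheafToPresheaf _ _ ⋙ (evaluation _ _).obj (op V)

omit [HasInjectiveResolutions X.Modules] in
lemma exists_app_of_mono {T : ShortComplex Y.Modules} (hT : T.Exact) [Mono T.f] (V : Y.Opens) (t : Γ(T.X₂, V))
    (ht : T.g.app V t = 0) : ∃ s : Γ(T.X₁, V), T.f.app V s = t := by
  haveI : PreservesFiniteLimits (SheafOfModules.toSheaf Y.ringCatSheaf) := inferInstance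
  haveI : PreservesFiniteLimits (secF Y V) := inferInstance
  have h := hT.map_of_mono_of_preservesKernel (secF Y V) inferInstance inferInstance
  exact (ShortComplex.ab_exact_iff _).1 h t ht

omit [HasInjectiveResolutions X.Modules] in
/-- Exactness on a space, sectionwise. -/
lemma exact_locally {T : ShortComplex Y.Modules} (hT : T.Exact) (V : Y.Opens) (t : Γ(T.X₂, V))
    (ht : T.g.app V t = 0) (y : Y) (hy : y ∈ V) :
    ∃ (W : Y.Opens) (hW : W ≤ V), y ∈ W ∧ ∃ s : Γ(T.X₁, W), T.f.app W s = res T.X₂ hW t := by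
  have hk : (ShortComplex.mk (kernel.ι T.g) T.g (kernel.condition _)).Exact :=
    ShortComplex.exact_of_f_is_kernel _ (kernelIsKernel _)
  obtain ⟨k, hk'⟩ := exists_app_of_mono hk V t ht
  haveI : Epi (kernel.lift T.g T.f T.zero) := hT.epi_kernelLift
  obtain ⟨W, hW, hyW, s, hs⟩ := TMul.exists_app_eq_of_epi (kernel.lift T.g T.f T.zero) k hy
  refine ⟨W, hW, hyW, s, ?_⟩
  have e : T.f.app W s = (kernel.ι T.g).app W ((kernel.lift T.g T.f T.zero).app W s) :=
    congr(($((kernel.lift_ι T.g T.f T.zero).symm)).app W s)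
  exact e.trans ((congrArg ((kernel.ι T.g).app W) hs).trans
    ((app_res (kernel.ι T.g) hW k).symm.trans (congrArg (res T.X₂ hW) hk')))

omit [HasInjectiveResolutions X.Modules] in
lemma resLE_extδ_eq_zero (S : ShortComplex X.Modules) {U U₁ U₂ : X.Opens} (h : U₂ ≤ U) (h₁ : U₂ ≤ U₁)
    (hU : (S.map (CohCmp.toAbOn X U)).ShortExact) (hU₂ : (S.map (CohCmp.toAbOn X U₂)).ShortExact) (p : ℕ)
    (z : Coh.HHon X S.X₃ U p) (b : Coh.HHon X S.X₂ U₁ p)
    (e : CohPull.resLE S.X₃ h p z =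
      CohPull.mapH ((Scheme.Modules.restrictFunctor U₂.ι).map S.g) p (CohPull.resLE S.X₂ h₁ p b)) :
    CohPull.resLE S.X₁ h (p + 1) (CohCmp.extδ hU p z) = 0 :=
  (resLE_extδ h S hU hU₂ p z).trans
    ((CohFinite.δH_eq_zero_iff hU₂ p _).2 ⟨CohPull.resLE S.X₂ h₁ p b, e.symm⟩)

/-- The comparison is locally injective. -/
theorem ε_locally_injective (E : CohCmp.SectCmp f Δ) : ∀ (p : ℕ) (F : X.Modules) (V : Y.Opens)
    (x : Coh.HHon X F (f ⁻¹ᵁ V) p) (_ : E.ε V F p x = 0) (y : Y) (_ : y ∈ V),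
    ∃ (W : Y.Opens) (hWV : W ≤ V), y ∈ W ∧ CohPull.resLE (U := f ⁻¹ᵁ V) (U' := f ⁻¹ᵁ W) F (f.preimage_mono hWV) p x = 0 := by
  intro p
  induction p with
  | zero =>
    intro F V x hx y hy
    refine ⟨V, le_rfl, hy, ?_⟩
    rw [(ε_zero_bijective E V F).1 (hx.trans (map_zero (E.ε V F 0)).symm), map_zero]
  | succ p ih =>
    intro F V x hx y hy
    have hS := emb_shortExact F
    have hV := restr_shortExact hS (f ⁻¹ᵁ V)
    obtain ⟨z, rfl⟩ := exists_extδ F _ p x
    have h0 : (Δ.δ (emb F) hS p (p + 1) rfl).app V (E.ε V (emb F).X₃ p z) = 0 :=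
      (E.delta V (emb F) hS hV p z).symm.trans hx
    obtain ⟨W, hW, hyW, w, hw⟩ := exact_locally (Δ.exact₃ (emb F) hS p (p + 1) rfl) V _ h0 y hy
    change ((Coh.Rpush f p).map (emb F).g).app W w = _ at hw
    obtain ⟨W₁, hW₁, hyW₁, b, hb⟩ : ∃ (W₁ : Y.Opens) (hW₁ : W₁ ≤ W), y ∈ W₁ ∧
        ∃ b : Coh.HHon X (emb F).X₂ (f ⁻¹ᵁ W₁) p, E.ε W₁ _ p b = res _ hW₁ w := by
      cases p with
      | zero =>
        obtain ⟨b, hb⟩ := (ε_zero_bijective E W (emb F).X₂).2 w
        exact ⟨W, le_rfl, hyW, b, hb.trans (res_self _ _ _).symm⟩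
      | succ q =>
        haveI : Subsingleton Γ((Coh.Rpush f (q + 1)).obj (emb F).X₂, W) :=
          PinchQC.subsingleton_sections_of_isZero (isZero_rpush_injective (emb F).X₂ q) W
        refine ⟨W, le_rfl, hyW, 0, ?_⟩
        rw [map_zero, Subsingleton.elim w 0, map_zero]
    let m := CohPull.mapH ((Scheme.Modules.restrictFunctor (f ⁻¹ᵁ W₁).ι).map (emb F).g) p
    have hd : E.ε W₁ (emb F).X₃ p
        (CohPull.resLE (U := f ⁻¹ᵁ V) (U' := f ⁻¹ᵁ W₁) _ (f.preimage_mono (hW₁.trans hW)) p z - m b) = 0 := by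
      rw [map_sub, ε_res E p _ (hW₁.trans hW), E.natural, hb, ← app_res, hw, res_res, sub_self]
    obtain ⟨W₂, hW₂, hyW₂, h2⟩ := ih (emb F).X₃ W₁ _ hd y hyW₁
    refine ⟨W₂, hW₂.trans (hW₁.trans hW), hyW₂, ?_⟩
    rw [map_sub, resLE_trans (U := f ⁻¹ᵁ V) (U' := f ⁻¹ᵁ W₁) (U'' := f ⁻¹ᵁ W₂), resLE_natural, sub_eq_zero] at h2
    have key := resLE_extδ_eq_zero (U := f ⁻¹ᵁ V) (U₁ := f ⁻¹ᵁ W₁) (U₂ := f ⁻¹ᵁ W₂) (emb F) _
      _ hV (restr_shortExact hS (f ⁻¹ᵁ W₂)) p z b h2
    exact (resLE_congr (U := f ⁻¹ᵁ V) (U' := f ⁻¹ᵁ W₂) (emb F).X₁ _ _ (p + 1) _).trans key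

/-- The comparison is locally surjective. -/
theorem ε_locally_surjective (E : CohCmp.SectCmp f Δ) : ∀ (p : ℕ) (F : X.Modules) (V : Y.Opens)
    (t : Γ((Coh.Rpush f p).obj F, V)) (y : Y) (_ : y ∈ V),
    ∃ (W : Y.Opens) (hWV : W ≤ V), y ∈ W ∧
      ∃ x : Coh.HHon X F (f ⁻¹ᵁ W) p, E.ε W F p x = res ((Coh.Rpush f p).obj F) hWV t := by
  intro p
  induction p with
  | zero =>
    intro F V t y hy
    obtain ⟨x, hx⟩ := (ε_zero_bijective E V F).2 t
    exact ⟨V, le_rfl, hy, x, hx.trans (res_self _ _ _).symm⟩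
  | succ p ih =>
    intro F V t y hy
    have hS := emb_shortExact F
    have hz : ((Coh.Rpush f (p + 1)).map (emb F).f).app V t = 0 :=
      haveI := PinchQC.subsingleton_sections_of_isZero (isZero_rpush_injective (f := f) (emb F).X₂ p) V
      Subsingleton.elim (α := Γ((Coh.Rpush f (p + 1)).obj (emb F).X₂, V)) _ _
    obtain ⟨W, hW, hyW, s, hs⟩ := exact_locally (Δ.exact₁ (emb F) hS p (p + 1) rfl) V t hz y hy
    obtain ⟨W₁, hW₁, hyW₁, z, hz⟩ := ih (emb F).X₃ W s y hyW
    refine ⟨W₁, hW₁.trans hW, hyW₁,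
      CohCmp.extδ (restr_shortExact hS (f ⁻¹ᵁ W₁)) p z, ?_⟩
    refine (E.delta W₁ (emb F) hS (restr_shortExact hS (f ⁻¹ᵁ W₁)) p z).trans ?_
    refine (congrArg ((Δ.δ (emb F) hS p (p + 1) rfl).app W₁) hz).trans ((app_res _ hW₁ s).symm.trans ?_)
    exact (congrArg (res _ hW₁) hs).trans (res_res _ _ _ t)

end Groth.Agent.W7Gen
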