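import Groth.Agent.W7Gen.Maps
import Groth.Agent.W7Gen.Sect

/-!
Base change maps of two squares side by side.
-/

set_option autoImplicit false
set_option backward.isDefEq.respectTransparency false
set_option linter.style.haveILetI false
set_option maxHeartbeats 1600000

universe u

open CategoryTheory CategoryTheory.Limits AlgebraicGeometry TopologicalSpace Opposite
open Groth.Agent.QC (res resO res_res res_self res_smul app_res)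

noncomputable section

namespace Groth.Agent.W7Gen

variable {X Y Z U V W : Scheme.{u}}

/-- Maps out of a double pullback are determined on pulled back sections. -/
lemma pullback₂_ext (φ : U ⟶ V) (ψ : V ⟶ W) {R : W.Modules} {N : U.Modules}
    (α β : (Scheme.Modules.pullback φ).obj ((Scheme.Modules.pullback ψ).obj R) ⟶ N)
    (h : ∀ (O : W.Opens) (s : Γ(R, O)),
      α.app (φ ⁻¹ᵁ (ψ ⁻¹ᵁ O)) (OmegaSh.pullSect φ _ (ψ ⁻¹ᵁ O) (OmegaSh.pullSect ψ R O s)) =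
        β.app (φ ⁻¹ᵁ (ψ ⁻¹ᵁ O)) (OmegaSh.pullSect φ _ (ψ ⁻¹ᵁ O) (OmegaSh.pullSect ψ R O s))) : α = β := by
  apply ((Scheme.Modules.pullbackPushforwardAdjunction φ).homEquiv _ _).injective
  apply ((Scheme.Modules.pullbackPushforwardAdjunction ψ).homEquiv _ _).injective
  refine hom_ext_app _ _ fun O s => ?_
  simp only [Adjunction.homEquiv_unit]
  exact h O s

/-- A transpose, on a pulled back section. -/
lemma symm_app_pullSect (φ : U ⟶ V) {R : V.Modules} {N : U.Modules}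
    (θ : R ⟶ (Scheme.Modules.pushforward φ).obj N) (O : V.Opens) (s : Γ(R, O)) :
    (((Scheme.Modules.pullbackPushforwardAdjunction φ).homEquiv R N).symm θ).app (φ ⁻¹ᵁ O)
      (OmegaSh.pullSect φ R O s) = θ.app O s := by
  have h1 := ((Scheme.Modules.pullbackPushforwardAdjunction φ).homEquiv_unit R N
    (((Scheme.Modules.pullbackPushforwardAdjunction φ).homEquiv R N).symm θ)).symm.trans
      (Equiv.apply_symm_apply _ θ)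
  exact congr(($h1).app O s)

/-- Pulling back classes along a composite. -/
lemma pullOn_comp (f : X ⟶ Y) (g : Y ⟶ Z) (L : Z.Modules) (O : Z.Opens) (O' : Y.Opens) (O'' : X.Opens)
    (h : O' ≤ g ⁻¹ᵁ O) (h' : O'' ≤ f ⁻¹ᵁ O') (p : ℕ) (x : Coh.HHon Z L O p) :
    CohPull.mapH ((Scheme.Modules.restrictFunctor O''.ι).map ((Scheme.Modules.pullbackComp f g).hom.app L)) p
        (CohPull.pullOn f O' O'' h' ((Scheme.Modules.pullback g).obj L) p (CohPull.pullOn g O O' h L p x)) =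
      CohPull.pullOn (f ≫ g) O O'' (h'.trans (f.preimage_mono h)) L p x := by
  let G := (Scheme.Modules.pullback g).obj L
  let H := (Scheme.Modules.pullback (f ≫ g)).obj L
  let c := (Scheme.Modules.pullbackComp f g).hom.app L
  have h₁ : O'' ≤ (f ≫ g) ⁻¹ᵁ O := h'.trans (f.preimage_mono h)
  rw [pullOn_eq_PM, pullOn_eq_PM, pullOn_eq_PM]
  refine (PM_post (f.resLE O' O'' h') (xiMod f O' O'' h' G) ((Scheme.Modules.restrictFunctor O''.ι).map c) p _).trans ?_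
  have hr : f.resLE O' O'' h' ≫ g.resLE O O' h = (f ≫ g).resLE O O'' h₁ := Scheme.Hom.resLE_comp_resLE _ _ _ _
  refine PM_comp (f.resLE O' O'' h') (g.resLE O O' h) ((f ≫ g).resLE O O'' h₁) hr _ (xiMod g O O' h L)
    (xiMod (f ≫ g) O O'' h₁ L) (fun T s => ?_) p x
  let T' := (g.resLE O O' h) ⁻¹ᵁ T
  have hT : O'.ι ''ᵁ T' ≤ g ⁻¹ᵁ (O.ι ''ᵁ T) := image_preimage_resLE g O O' h T
  have hT' := image_preimage_resLE f O' O'' h' T'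
  let S₀ := OmegaSh.pullSect g L (O.ι ''ᵁ T) s
  have a1 := xiMod_app g O O' h L T s
  have a2 := xiMod_app f O' O'' h' G T' (res G hT S₀)
  have a3 := xiMod_app (f ≫ g) O O'' h₁ L T s
  have a4 : OmegaSh.pullSect f G (O'.ι ''ᵁ T') (res G hT S₀) =
      res _ (f.preimage_mono hT) (OmegaSh.pullSect f G (g ⁻¹ᵁ (O.ι ''ᵁ T)) S₀) :=
    OmegaSh.pullSect_map f G hT S₀
  have a5 : c.app (O''.ι ''ᵁ ((f.resLE O' O'' h') ⁻¹ᵁ T'))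
      (res _ (hT'.trans (f.preimage_mono hT)) (OmegaSh.pullSect f G (g ⁻¹ᵁ (O.ι ''ᵁ T)) S₀)) =
      res H (hT'.trans (f.preimage_mono hT)) (OmegaSh.pullSect (f ≫ g) L (O.ι ''ᵁ T) s) :=
    (app_res c (hT'.trans (f.preimage_mono hT)) _).symm.trans
      (congrArg (res H _) (QC.pullbackComp_hom_pullSect f g L (O.ι ''ᵁ T) s))
  let P := H.restrict O''.ι
  let e : ((f ≫ g).resLE O O'' h₁) ⁻¹ᵁ T = (f.resLE O' O'' h') ⁻¹ᵁ T' := by rw [← hr]; rfl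
  refine a3.trans (Eq.symm ?_)
  refine (congrArg (fun z => P.presheaf.map (eqToHom e).op
      (c.app (O''.ι ''ᵁ ((f.resLE O' O'' h') ⁻¹ᵁ T')) ((xiMod f O' O'' h' G).app T' z))) a1).trans ?_
  refine (congrArg (fun z => P.presheaf.map (eqToHom e).op (c.app (O''.ι ''ᵁ ((f.resLE O' O'' h') ⁻¹ᵁ T')) z))
    (a2.trans ((congrArg (res _ hT') a4).trans (res_res _ _ _ _)))).trans ?_
  refine (congrArg (P.presheaf.map (eqToHom e).op) a5).trans ?_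
  exact map_map H (homOfLE (hT'.trans (f.preimage_mono hT))).op (O''.ι.opensFunctor.map (eqToHom e)).op
    (homOfLE (image_preimage_resLE (f ≫ g) O O'' h₁ T)).op (OmegaSh.pullSect (f ≫ g) L (O.ι ''ᵁ T) s)

theorem bc_comp {f : X ⟶ Y} {g : Y ⟶ Z} {ξ : X ⟶ U} {η : Y ⟶ V} {ζ : Z ⟶ W} {φ : U ⟶ V} {ψ : V ⟶ W}
    {w₁ : f ≫ η = ξ ≫ φ} {w₂ : g ≫ ζ = η ≫ ψ} {hw : (f ≫ g) ≫ ζ = ξ ≫ (φ ≫ ψ)}
    [HasInjectiveResolutions X.Modules] [HasInjectiveResolutions Y.Modules] [HasInjectiveResolutions Z.Modules]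
    {Δζ : RDer.DerivedLES (Scheme.Modules.pushforward ζ)} {Δη : RDer.DerivedLES (Scheme.Modules.pushforward η)}
    {Δξ : RDer.DerivedLES (Scheme.Modules.pushforward ξ)} {Eζ : CohCmp.SectCmp ζ Δζ} {Eη : CohCmp.SectCmp η Δη}
    {Eξ : CohCmp.SectCmp ξ Δξ} (B₂ : CohCmp.GenBC ζ ψ η g w₂ Eζ Eη) (B₁ : CohCmp.GenBC η φ ξ f w₁ Eη Eξ)
    (B : CohCmp.GenBC ζ (φ ≫ ψ) ξ (f ≫ g) hw Eζ Eξ) (L : Z.Modules) (p : ℕ) :
    (Scheme.Modules.pullbackComp φ ψ).hom.app ((Coh.Rpush ζ p).obj L) ≫ B.bc p L =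
      (Scheme.Modules.pullback φ).map (B₂.bc p L) ≫ B₁.bc p ((Scheme.Modules.pullback g).obj L) ≫
        (Coh.Rpush ξ p).map ((Scheme.Modules.pullbackComp f g).hom.app L) := by
  let R := (Coh.Rpush ζ p).obj L
  let N := (Coh.Rpush ξ p).obj ((Scheme.Modules.pullback (f ≫ g)).obj L)
  let c := (Scheme.Modules.pullbackComp f g).hom.app L
  refine pullback₂_ext φ ψ _ _ fun O s => ?_
  refine Groth.Agent.QC.section_eq_of_locally fun z hz => ?_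
  obtain ⟨O₁, hO₁, hz₁, x, hx⟩ := ε_locally_surjective Eζ p L O s (ψ (φ z)) hz
  refine ⟨φ ⁻¹ᵁ (ψ ⁻¹ᵁ O₁), φ.preimage_mono (ψ.preimage_mono hO₁), hz₁, ?_⟩
  rw [app_res, app_res, ← OmegaSh.pullSect_map φ _ (ψ.preimage_mono hO₁), ← OmegaSh.pullSect_map ψ _ hO₁, ← hx]
  let q₂ := CohPull.pullOn g (ζ ⁻¹ᵁ O₁) (η ⁻¹ᵁ (ψ ⁻¹ᵁ O₁)) (CohCmp.sqLE ζ ψ η g w₂ O₁) L p x
  let q₁ := CohPull.pullOn f (η ⁻¹ᵁ (ψ ⁻¹ᵁ O₁)) (ξ ⁻¹ᵁ (φ ⁻¹ᵁ (ψ ⁻¹ᵁ O₁))) (CohCmp.sqLE η φ ξ f w₁ (ψ ⁻¹ᵁ O₁))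
    ((Scheme.Modules.pullback g).obj L) p q₂
  have e0 : (B.bc p L).app (φ ⁻¹ᵁ (ψ ⁻¹ᵁ O₁)) (((Scheme.Modules.pullbackComp φ ψ).hom.app R).app _
      (OmegaSh.pullSect φ _ (ψ ⁻¹ᵁ O₁) (OmegaSh.pullSect ψ R O₁ (Eζ.ε O₁ L p x)))) = (B.φ p L).app O₁ (Eζ.ε O₁ L p x) :=
    (congrArg ((B.bc p L).app (φ ⁻¹ᵁ (ψ ⁻¹ᵁ O₁))) (QC.pullbackComp_hom_pullSect φ ψ R O₁ _)).trans
      (symm_app_pullSect (φ ≫ ψ) (B.φ p L) O₁ _)
  have e2 : (B₂.bc p L).app (ψ ⁻¹ᵁ O₁) (OmegaSh.pullSect ψ R O₁ (Eζ.ε O₁ L p x)) =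
      Eη.ε (ψ ⁻¹ᵁ O₁) ((Scheme.Modules.pullback g).obj L) p q₂ :=
    (symm_app_pullSect ψ (B₂.φ p L) O₁ _).trans (B₂.compat O₁ L p x)
  have e1 : (B₁.bc p ((Scheme.Modules.pullback g).obj L)).app (φ ⁻¹ᵁ (ψ ⁻¹ᵁ O₁))
      (OmegaSh.pullSect φ _ (ψ ⁻¹ᵁ O₁) (Eη.ε (ψ ⁻¹ᵁ O₁) ((Scheme.Modules.pullback g).obj L) p q₂)) =
      Eξ.ε (φ ⁻¹ᵁ (ψ ⁻¹ᵁ O₁)) _ p q₁ :=
    (symm_app_pullSect φ (B₁.φ p _) (ψ ⁻¹ᵁ O₁) _).trans (B₁.compat (ψ ⁻¹ᵁ O₁) _ p q₂)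
  refine e0.trans ((B.compat O₁ L p x).trans ?_)
  refine Eq.symm ?_
  change ((Coh.Rpush ξ p).map c).app _ ((B₁.bc p ((Scheme.Modules.pullback g).obj L)).app (φ ⁻¹ᵁ (ψ ⁻¹ᵁ O₁))
    (((Scheme.Modules.pullback φ).map (B₂.bc p L)).app (φ ⁻¹ᵁ (ψ ⁻¹ᵁ O₁))
      (OmegaSh.pullSect φ _ (ψ ⁻¹ᵁ O₁) (OmegaSh.pullSect ψ R O₁ (Eζ.ε O₁ L p x))))) = _
  rw [QC.app_pullSect φ (B₂.bc p L) (ψ ⁻¹ᵁ O₁), e2, e1]
  refine (Eξ.natural (φ ⁻¹ᵁ (ψ ⁻¹ᵁ O₁)) c p q₁).symm.trans ?_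
  exact congrArg (Eξ.ε _ _ p) (pullOn_comp f g L _ _ _ _ _ p x)

end Groth.Agent.W7Gen
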