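import Groth.Agent.W7Gen.Semi
import Mathlib.Algebra.Category.Ring.Constructions

/-!
A base change along `A → A'` is one along `B → B'` when `B'` is generated by `A'` and `B`.
-/

set_option autoImplicit false
set_option linter.style.haveILetI false

universe u

open CategoryTheory CategoryTheory.Limits
open scoped TensorProduct

noncomputable section

namespace Groth.Agent.W7Gen

/-- The coproduct of `B` and `A'` over `A` is generated by both. -/
lemma closure_eq_top_of_isPushout {A B A' B' : CommRingCat.{u}} {φ : A ⟶ B} {φg : A ⟶ A'} {ψ : B ⟶ B'}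
    {φ' : A' ⟶ B'} (h : IsPushout φ φg ψ φ') :
    Subring.closure (Set.range ψ.hom ∪ Set.range φ'.hom) = ⊤ := by
  let P := Subring.closure (Set.range ψ.hom ∪ Set.range φ'.hom)
  let i : B ⟶ CommRingCat.of P := CommRingCat.ofHom
    (ψ.hom.codRestrict P fun b => Subring.subset_closure (Or.inl ⟨b, rfl⟩))
  let j : A' ⟶ CommRingCat.of P := CommRingCat.ofHom
    (φ'.hom.codRestrict P fun b => Subring.subset_closure (Or.inr ⟨b, rfl⟩))
  have hw : φ ≫ i = φg ≫ j := CommRingCat.hom_ext (RingHom.ext fun a => Subtype.ext (congr(($h.w) a)))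
  let ι : CommRingCat.of P ⟶ B' := CommRingCat.ofHom P.subtype
  have hid : h.desc i j hw ≫ ι = 𝟙 B' := by
    apply h.hom_ext
    · rw [IsPushout.inl_desc_assoc, Category.comp_id]; rfl
    · rw [IsPushout.inr_desc_assoc, Category.comp_id]; rfl
  refine eq_top_iff.2 fun x _ => ?_
  have hx := congr(($hid) x)
  simp only [CommRingCat.hom_comp, CommRingCat.hom_id, RingHom.id_apply, RingHom.comp_apply] at hx
  exact hx ▸ (h.desc i j hw x).2

variable {A B A' B' M N : Type u} [CommRing A] [CommRing B] [CommRing A'] [CommRing B'] [Algebra A A']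
  {φ : A →+* B} {φ' : A' →+* B'} {ψ : B →+* B'}
  [AddCommGroup M] [Module B M] [Module A M] [AddCommGroup N] [Module B' N] [Module A' N] [Module A N]
  [IsScalarTower A A' N]

/-- Transitivity of base change for semilinear maps. -/
theorem semiBij_of_generated (hgen : Subring.closure (Set.range ψ ∪ Set.range φ') = ⊤)
    (hcomm : ∀ a, ψ (φ a) = φ' (algebraMap A A' a)) (hM : ∀ (a : A) (m : M), a • m = φ a • m)
    (hN : ∀ (c : A') (n : N), c • n = φ' c • n) (k : M →ₛₗ[ψ] N) (k₀ : M →ₗ[A] N) (hk : ∀ m, k₀ m = k m)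
    (hbij : Function.Bijective (k₀.liftBaseChange A')) : SemiBij k := by
  intro Q _ _ w
  letI : Module A' Q := Module.compHom Q φ'
  letI : Module A Q := Module.compHom Q (φ'.comp (algebraMap A A'))
  haveI : IsScalarTower A A' Q := IsScalarTower.of_algebraMap_smul fun _ _ => rfl
  let w₀ : M →ₗ[A] Q :=
    { toFun := w
      map_add' := w.map_add
      map_smul' := fun a m => by
        rw [hM, w.map_smulₛₗ, hcomm]
        rfl }
  let e := LinearEquiv.ofBijective _ hbij
  let f₀ : N →ₗ[A'] Q := (w₀.liftBaseChange A') ∘ₗ e.symm.toLinearMap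
  have hf₀ : ∀ (c : A') (m : M), f₀ (c • k m) = φ' c • w m := fun c m => by
    have hm : e.symm (c • k m) = c ⊗ₜ[A] m := by
      rw [LinearEquiv.symm_apply_eq]
      change c • k m = k₀.liftBaseChange A' (c ⊗ₜ[A] m)
      rw [LinearMap.liftBaseChange_tmul, hk]
    change w₀.liftBaseChange A' (e.symm (c • k m)) = _
    rw [hm, LinearMap.liftBaseChange_tmul]
    rfl
  have hind : ∀ {p : N → Prop}, p 0 → (∀ x y, p x → p y → p (x + y)) → (∀ (c : A') (m : M), p (c • k m)) → ∀ n, p n := by
    intro p h0 hadd hmul n
    obtain ⟨z, rfl⟩ := e.surjective n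
    induction z using TensorProduct.induction_on with
    | zero => rw [map_zero]; exact h0
    | tmul c m =>
      change p (k₀.liftBaseChange A' (c ⊗ₜ[A] m))
      rw [LinearMap.liftBaseChange_tmul, hk]
      exact hmul c m
    | add x y hx hy => rw [map_add]; exact hadd _ _ hx hy
  have hlin : ∀ (r : B') (n : N), f₀ (r • n) = r • f₀ n := by
    intro r
    have hr : r ∈ Subring.closure (Set.range ψ ∪ Set.range φ') := hgen ▸ trivial
    induction hr using Subring.closure_induction with
    | mem x hx =>
      rcases hx with ⟨b, rfl⟩ | ⟨c, rfl⟩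
      · refine hind ?_ ?_ ?_
        · rw [smul_zero, map_zero, smul_zero]
        · intro x y hx hy
          rw [smul_add, map_add, map_add, hx, hy, smul_add]
        · intro c m
          rw [hN, smul_comm, ← k.map_smulₛₗ, ← hN, hf₀, ← hN, hf₀, w.map_smulₛₗ, smul_comm]
      · intro n
        rw [← hN, map_smul]
        rfl
    | zero => intro n; rw [zero_smul, map_zero, zero_smul]
    | one => intro n; rw [one_smul, one_smul]
    | add x y _ _ hx hy => intro n; rw [add_smul, map_add, hx, hy, add_smul]
    | neg x _ hx => intro n; rw [neg_smul, map_neg, hx, neg_smul]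
    | mul x y _ _ hx hy => intro n; rw [mul_smul, hx, hy, mul_smul]
  refine ⟨{ toFun := f₀, map_add' := f₀.map_add, map_smul' := hlin }, fun m => ?_, fun f hf => ?_⟩
  · have h := hf₀ 1 m
    rwa [one_smul, map_one, one_smul] at h
  · refine LinearMap.ext fun n => hind (p := fun n => f n = f₀ n) ?_ ?_ ?_ n
    · rw [map_zero, map_zero]
    · intro x y hx hy
      rw [map_add, map_add, hx, hy]
    · intro c m
      rw [hf₀, hN, map_smul]
      exact congrArg _ (hf m)

end Groth.Agent.W7Gen
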