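import Groth.Agent.W7Gen.Bc
import Groth.Agent.W7Gen.FlatGen
import Groth.Agent.W7Cech.FlatHom
import Groth.Agent.FlatModB.Basic

/-!
Base change of higher direct images with flat cohomology.
-/

set_option autoImplicit false
set_option backward.isDefEq.respectTransparency false
set_option linter.style.haveILetI false
set_option maxHeartbeats 1600000

universe u

open CategoryTheory CategoryTheory.Limits AlgebraicGeometry TopologicalSpace Opposite
open Groth.Agent.QC (res resO res_res res_self res_smul app_res)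
open Groth.Agent.W7Cech (CC secA secRing)
open Groth.Agent.SiteCoh Groth.Agent.ProjCech
open Groth.Agent.FlatCx (comparison Opc Hm)

noncomputable section

namespace Groth.Agent.W7Gen

section Complex

variable (A : Type u) [CommRing A] {X : Scheme.{u}} [X.Over (Spec (CommRingCat.of A))] [X.IsSeparated]
  {ι : Type u} [Finite ι] (U : ι → X.Opens)
  (hU : ∀ (n : ℕ) (a : Fin (n + 1) → ι), IsAffineOpen (tupleProd U a)) (hcov : iSup U = ⊤)

include hU hcov in
/-- Flat terms and flat cohomology: flat opcycles everywhere. -/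
theorem flat_opc_CC (F : X.Modules) (hF : Coh.IsQCoh F) (hC : ∀ n, Module.Flat A (((CC A U).obj F).X n))
    (hH : ∀ p : ℕ, Module.Flat A (Coh.HH X F p)) (p : ℕ) :
    Module.Flat A (Opc ((CC A U).obj F) p ((ComplexShape.up ℕ).next p)) := by
  let C := (CC A U).obj F
  have hU1 : ∀ i, IsAffineOpen (U i) := fun i => by
    have := hU 0 fun _ => i
    rwa [tupleProd_eq_iInf, iInf_const] at this
  choose e _ using W7Cech.exists_TEquiv A U hU hcov F hF
  choose eH _ using W7Cech.exists_hhEquiv A U hU hcov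
  have hHm : ∀ n, Module.Flat A (Hm C n) := fun n => by
    haveI := hH n
    haveI : Module.Flat A (C.homology n : Type u) := Module.Flat.of_linearEquiv (eH n F hF)
    exact Module.Flat.of_linearEquiv (FlatCx.homologyHmEquiv C n).symm
  have hc : ∀ j : ℕ, (ComplexShape.up ℕ).prev ((ComplexShape.up ℕ).next j) = j := fun j => by simp
  suffices h : ∀ k j : ℕ, Nat.card ι ≤ j + k → Module.Flat A (Opc C j ((ComplexShape.up ℕ).next j)) from
    h (Nat.card ι) p (Nat.le_add_left _ _)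
  intro k
  induction k with
  | zero =>
    intro j hj
    refine (FlatCx.preservesEpi_iff_flat_opc C j hC (hc j)).1 ⟨fun {M N} f _ => ?_⟩
    haveI := W7Cech.hh_vanish_cover U hU1 hcov _ (W7Cech.isQCoh_tensorAFunctor A F hF N) j (by omega)
    haveI : Subsingleton ((CohIII.TFun C j).obj N) := (e j N).injective.subsingleton
    exact (ModuleCat.epi_iff_surjective _).2 fun y => ⟨0, Subsingleton.elim _ _⟩
  | succ k ih =>
    intro j hj
    have h1 := (FlatCx.preservesMono_iff_flat_Hm C (j + 1) hC (ih (j + 1) (by omega))).2 (hHm (j + 1))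
    have h2 := (FlatCx.preservesMono_iff_flat_opc hC rfl rfl).1 h1
    rwa [CochainComplex.prev_nat_succ, show j + 1 = (ComplexShape.up ℕ).next j by simp] at h2

end Complex

/-- Flatness through an additive equivalence respecting scalars. -/
lemma flat_of_addEquiv {A : Type u} [CommRing A] {M N : Type u} [AddCommGroup M] [AddCommGroup N]
    (iM : Module A M) (iN : Module A N) (e : M ≃+ N) (he : ∀ (c : A) (m : M), e (c • m) = c • e m)
    (h : Module.Flat A N) : Module.Flat A M :=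
  haveI := h
  Module.Flat.of_linearEquiv (e.toLinearEquiv he)

/-- Sections of a module flat over `S`, over the affine opens of an open subscheme over `Spec Γ(S, W)`. -/
theorem flat_secA_open {X S : Scheme.{u}} (a : X ⟶ S) {F : X.Modules} (hF : Coh.IsQCoh F)
    (hfl : FlatMod.IsFlatOver a F) {W : S.Opens} (hW : IsAffineOpen W) (U : X.Opens)
    [U.toScheme.Over (Spec (CommRingCat.of Γ(S, W)))]
    (hπ : (U.toScheme ↘ Spec (CommRingCat.of Γ(S, W))) ≫ hW.fromSpec = U.ι ≫ a)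
    {D : U.toScheme.Opens} (hD : IsAffineOpen D) :
    Module.Flat Γ(S, W) ((secA Γ(S, W) D).obj (F.restrict U.ι) : Type u) := by
  let π := U.toScheme ↘ Spec (CommRingCat.of Γ(S, W))
  have hle : U.ι ''ᵁ D ≤ a ⁻¹ᵁ W := by
    rintro _ ⟨x, -, rfl⟩
    change a (U.ι x) ∈ W
    rw [← Scheme.Hom.comp_apply, ← hπ, Scheme.Hom.comp_apply]
    exact hW.range_fromSpec.subset ⟨_, rfl⟩
  have h := (FlatModB.isFlatOver_iff a F hF).1 hfl _ W hle (hD.image_of_isOpenImmersion U.ι) hW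
  have hsc : ∀ c : Γ(S, W), (U.ι.appIso D).inv (secRing Γ(S, W) D c) = a.appLE W (U.ι ''ᵁ D) hle c := by
    intro c
    apply (ConcreteCategory.bijective_of_isIso (U.ι.appIso D).hom).1
    refine (ConcreteCategory.congr_hom (U.ι.appIso D).inv_hom_id _).trans ?_
    rw [Scheme.Hom.appIso_hom' U.ι D]
    refine Eq.trans ?_ (ConcreteCategory.congr_hom
      (Scheme.Hom.appLE_comp_appLE U.ι a W (U.ι ''ᵁ D) D hle ((U.ι.preimage_image_eq D).ge)).symm c)
    change π.appLE ⊤ D le_top ((Scheme.ΓSpecIso Γ(S, W)).inv c) = _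
    have h2 : (U.ι ≫ a).appLE W D (by rw [← hπ, Scheme.Hom.comp_preimage, hW.fromSpec_preimage_self]; exact le_top) =
        (Scheme.ΓSpecIso Γ(S, W)).inv ≫ π.appLE ⊤ D le_top := by
      have e1 := Scheme.Hom.appLE_comp_appLE π hW.fromSpec W ⊤ D hW.fromSpec_preimage_self.ge le_top
      have e2 : hW.fromSpec.appLE W ⊤ hW.fromSpec_preimage_self.ge = (Scheme.ΓSpecIso Γ(S, W)).inv := by
        rw [Scheme.Hom.appLE, hW.fromSpec_app_self, Category.assoc, ← Functor.map_comp]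
        exact (congrArg ((Scheme.ΓSpecIso Γ(S, W)).inv ≫ ·) ((Spec Γ(S, W)).presheaf.map_id _)).trans
          (Category.comp_id _)
      simp only [← hπ]
      rw [← e1, e2]
    exact (ConcreteCategory.congr_hom h2 c).symm
  exact flat_of_addEquiv ((secA Γ(S, W) D).obj (F.restrict U.ι)).isModule
    (FlatModB.secModule a F (U.ι ''ᵁ D) W hle) (AddEquiv.refl Γ(F, U.ι ''ᵁ D))
    (fun c m => congrArg (fun t => t • (show Γ(F, U.ι ''ᵁ D) from m)) (hsc c)) h

/-- The comparison with sections over an affine open, linearly over its functions. -/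
theorem exists_εEquiv {X S : Scheme.{u}} {f : X ⟶ S} [IsSeparated f] [QuasiCompact f]
    [HasInjectiveResolutions X.Modules] {Δ : RDer.DerivedLES (Scheme.Modules.pushforward f)}
    (E : CohCmp.SectCmp f Δ) (F : X.Modules) (hF : Coh.IsQCoh F) {V : S.Opens} (hV : IsAffineOpen V) (p : ℕ) :
    letI : (f ⁻¹ᵁ V).toScheme.Over (Spec (CommRingCat.of Γ(S, V))) := ⟨(f ∣_ V) ≫ hV.isoSpec.hom⟩
    ∃ εL : Coh.HH (f ⁻¹ᵁ V).toScheme (F.restrict (f ⁻¹ᵁ V).ι) p ≃ₗ[Γ(S, V)] Γ((Coh.Rpush f p).obj F, V),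
      ∀ x, εL x = E.ε V F p x := by
  let U := f ⁻¹ᵁ V
  letI : U.toScheme.Over (Spec (CommRingCat.of Γ(S, V))) := ⟨(f ∣_ V) ≫ hV.isoSpec.hom⟩
  let F₀ := F.restrict U.ι
  refine ⟨(AddEquiv.ofBijective (E.ε V F p) (ε_bijective_affine E F hF hV p)).toLinearEquiv fun a x => ?_,
    fun x => rfl⟩
  refine Eq.trans ?_ (ε_act E p F V a x)
  refine congrArg (fun t => E.ε V F p (Sheaf.H.map (Coh.smulAb F₀ t) p x)) ?_
  change ((f ∣_ V) ≫ hV.isoSpec.hom).appTop ((Scheme.ΓSpecIso (CommRingCat.of Γ(S, V))).inv a) = _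
  rw [Scheme.Hom.comp_appTop]
  refine congrArg (f ∣_ V).appTop ?_
  rw [IsAffineOpen.isoSpec_hom_appTop]
  exact congrArg V.topIso.inv (ConcreteCategory.congr_hom (Scheme.ΓSpecIso Γ(S, V)).inv_hom_id a)

/-- Global scalars through a map of affine schemes. -/
lemma toGlobal_comp {X : Scheme.{u}} {A B : CommRingCat.{u}} (s : X ⟶ Spec B) (φ : A ⟶ B) (a : A) :
    Coh.toGlobal (A := A) (s ≫ Spec.map φ) a = Coh.toGlobal (A := B) s (φ a) := by
  change (s ≫ Spec.map φ).appTop ((Scheme.ΓSpecIso A).inv a) = s.appTop ((Scheme.ΓSpecIso B).inv (φ a))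
  rw [Scheme.Hom.comp_appTop]
  exact congrArg s.appTop (ConcreteCategory.congr_hom (Scheme.ΓSpecIso_inv_naturality φ) a).symm

theorem isIso_bc_flat {X Y S X' Y' S' : Scheme.{u}} (a : X ⟶ S) (b : Y ⟶ S) {f : X ⟶ Y} (hf : f ≫ b = a)
    [IsSeparated f] [QuasiCompact f] {g : S' ⟶ S} {gY : Y' ⟶ Y} {b' : Y' ⟶ S'} (hY : IsPullback gY b' b g)
    {gX : X' ⟶ X} {f' : X' ⟶ Y'} (hX : IsPullback gX f' f gY) [HasInjectiveResolutions X.Modules]
    [HasInjectiveResolutions X'.Modules] {F : X.Modules} (hq : Coh.IsQCoh F) (hF : FlatMod.IsFlatOver a F)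
    (hR : ∀ n : ℕ, FlatMod.IsFlatOver b ((Coh.Rpush f n).obj F)) {Δ : RDer.DerivedLES (Scheme.Modules.pushforward f)}
    {Δ' : RDer.DerivedLES (Scheme.Modules.pushforward f')} {E : CohCmp.SectCmp f Δ} {E' : CohCmp.SectCmp f' Δ'}
    (Bc : CohCmp.GenBC f gY f' gX hX.w E E') (n : ℕ) : IsIso (Bc.bc n F) := by
  haveI : IsSeparated f' := MorphismProperty.of_isPullback (P := @IsSeparated) hX inferInstance
  haveI : QuasiCompact f' := MorphismProperty.of_isPullback (P := @QuasiCompact) hX inferInstance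
  refine isIso_symm_of_semiBij (Bc.φ n F) (RPushQC.isQCoh_rpush f F hq n)
    (RPushQC.isQCoh_rpush _ _ (QC.isQCoh_pullback _ hq) n) fun z => ?_
  obtain ⟨W, hW, hzW, -⟩ := exists_isAffineOpen_mem_and_subset (X := S) (x := b (gY z)) (U := ⊤) trivial
  obtain ⟨V, hV, hzV, hVW⟩ := exists_isAffineOpen_mem_and_subset (X := Y) (x := gY z) (U := b ⁻¹ᵁ W) hzW
  have hzg : g (b' z) ∈ W := by
    rw [← Scheme.Hom.comp_apply, ← hY.w, Scheme.Hom.comp_apply]; exact hzW
  obtain ⟨W', hW', hzW', hWW⟩ := exists_isAffineOpen_mem_and_subset (X := S') (x := b' z) (U := g ⁻¹ᵁ W) hzg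
  let V' : Y'.Opens := gY ⁻¹ᵁ V ⊓ b' ⁻¹ᵁ W'
  have P := Scheme.Hom.isPullback_resLE hY hWW hVW (UY := V') rfl
  haveI : IsAffine V.toScheme := hV
  haveI : IsAffine W.toScheme := hW
  haveI : IsAffine W'.toScheme := hW'
  have hV' : IsAffineOpen V' := IsAffine.of_isIso P.isoPullback.hom
  have hle : V' ≤ gY ⁻¹ᵁ V := inf_le_left
  let φ : Γ(S, W) ⟶ Γ(Y, V) := b.appLE W V hVW
  let φg : Γ(S, W) ⟶ Γ(S', W') := g.appLE W W' hWW
  let ψ : Γ(Y, V) ⟶ Γ(Y', V') := gY.appLE V V' hle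
  let φ' : Γ(S', W') ⟶ Γ(Y', V') := b'.appLE W' V' inf_le_right
  have hsp : ∀ {T T' : Scheme.{u}} (k : T ⟶ T') {O : T.Opens} {O' : T'.Opens} (hO : IsAffineOpen O)
      (hO' : IsAffineOpen O') (e : O ≤ k ⁻¹ᵁ O'),
      k.resLE O' O e ≫ hO'.isoSpec.hom = hO.isoSpec.hom ≫ Spec.map (k.appLE O' O e) := fun k O O' hO hO' e => by
    rw [← cancel_mono hO'.fromSpec, Category.assoc, Category.assoc,
      IsAffineOpen.SpecMap_appLE_fromSpec k hO' hO e, IsAffineOpen.isoSpec_hom_fromSpec,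
      IsAffineOpen.isoSpec_hom_fromSpec_assoc, Scheme.Hom.resLE_comp_ι]
  have Q : IsPullback (Spec.map ψ) (Spec.map φ') (Spec.map φ) (Spec.map φg) :=
    P.of_iso hV'.isoSpec hV.isoSpec hW'.isoSpec hW.isoSpec (hsp gY hV' hV hle)
      (hsp b' hV' hW' inf_le_right) (hsp b hV hW hVW) (hsp g hW' hW hWW)
  have hpo : IsPushout φ φg ψ φ' := (IsPullback.of_map_of_faithful (f := ψ.op) (g := φ'.op) (h := φ.op) (i := φg.op) Scheme.Spec
    Q).unop.flip
  let U := f ⁻¹ᵁ V
  let U' := f' ⁻¹ᵁ V'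
  let sB := (f ∣_ V) ≫ hV.isoSpec.hom
  let sB' := (f' ∣_ V') ≫ hV'.isoSpec.hom
  let r := gX.resLE U U' (pre_le hX.w hle)
  have pair := isPullback_pair hX hV hV' hle
  have pairA : IsPullback r (sB' ≫ Spec.map φ') (sB ≫ Spec.map φ) (Spec.map φg) := pair.paste_vert Q
  letI algA : Algebra Γ(S, W) Γ(S', W') := φg.hom.toAlgebra
  letI oA : U.toScheme.Over (Spec (CommRingCat.of Γ(S, W))) := ⟨sB ≫ Spec.map φ⟩
  letI oA' : U'.toScheme.Over (Spec (CommRingCat.of Γ(S', W'))) := ⟨sB' ≫ Spec.map φ'⟩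
  letI oB : U.toScheme.Over (Spec (CommRingCat.of Γ(Y, V))) := ⟨sB⟩
  letI oB' : U'.toScheme.Over (Spec (CommRingCat.of Γ(Y', V'))) := ⟨sB'⟩
  haveI : IsSeparated (f ∣_ V) := IsZariskiLocalAtTarget.restrict (P := @IsSeparated) ‹_› V
  haveI : QuasiCompact (f ∣_ V) := IsZariskiLocalAtTarget.restrict (P := @QuasiCompact) ‹_› V
  haveI : IsSeparated (U.toScheme ↘ Spec (CommRingCat.of Γ(Y, V))) := inferInstanceAs (IsSeparated (_ ≫ _))
  haveI : QuasiCompact (U.toScheme ↘ Spec (CommRingCat.of Γ(Y, V))) := inferInstanceAs (QuasiCompact (_ ≫ _))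
  haveI : CompactSpace U.toScheme :=
    QuasiCompact.compactSpace_of_compactSpace (U.toScheme ↘ Spec (CommRingCat.of Γ(Y, V)))
  haveI : U.toScheme.IsSeparated := by
    constructor
    rw [← terminal.comp_from (U.toScheme ↘ Spec (CommRingCat.of Γ(Y, V)))]
    infer_instance
  obtain ⟨ι, hι, Wc, hWc, hcov⟩ := W7Cech.exists_cover U.toScheme
  haveI := hι
  let F₀ := F.restrict U.ι
  have hF₀ : Coh.IsQCoh F₀ := Groth.Agent.QC.isQCoh_restrict _ hq
  let C := (CC Γ(S, W) Wc).obj F₀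
  have hπ : (sB ≫ Spec.map φ) ≫ hW.fromSpec = U.ι ≫ a := by
    rw [Category.assoc, IsAffineOpen.SpecMap_appLE_fromSpec b hW hV hVW, Category.assoc,
      IsAffineOpen.isoSpec_hom_fromSpec_assoc, ← Category.assoc, morphismRestrict_ι, Category.assoc, hf]
  have hC : ∀ i, Module.Flat Γ(S, W) (C.X i) := fun i => by
    haveI : ∀ t : Fin (i + 1) → ι, Module.Flat Γ(S, W) ((secA Γ(S, W) (tupleProd Wc t)).obj F₀ : Type u) :=
      fun t => flat_secA_open a hq hF hW U hπ (hWc i t)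
    exact W7Cech.flat_pi Γ(S, W) fun t : Fin (i + 1) → ι => ((secA Γ(S, W) (tupleProd Wc t)).obj F₀ : Type u)
  let G := (Scheme.Modules.pullback gX).obj F
  let R := fun p => (Coh.Rpush f p).obj F
  let R' := (Coh.Rpush f' n).obj G
  let εL := fun p => (exists_εEquiv E F hq hV p).choose
  have hεL := fun p => (exists_εEquiv E F hq hV p).choose_spec
  let εL' := (exists_εEquiv E' G (QC.isQCoh_pullback gX hq) hV' n).choose
  have hεL' := (exists_εEquiv E' G (QC.isQCoh_pullback gX hq) hV' n).choose_spec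
  letI : ∀ p, Module Γ(S, W) Γ(R p, V) := fun p => FlatModB.secModule b (R p) V W hVW
  have hεA : ∀ p (c : Γ(S, W)) (x : Coh.HH U.toScheme F₀ p), εL p (c • x) = c • εL p x := fun p c x => by
    have h1 : (c • x : Coh.HH U.toScheme F₀ p) = φ c • x := by
      change Coh.toGlobal (sB ≫ Spec.map φ) c • x = Coh.toGlobal sB (φ c) • x
      exact congrArg (· • x) (toGlobal_comp sB φ c)
    rw [h1, map_smul]
    rfl
  have hH : ∀ p : ℕ, Module.Flat Γ(S, W) (Coh.HH U.toScheme F₀ p) := fun p => by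
    haveI : Module.Flat Γ(S, W) Γ(R p, V) :=
      (FlatModB.isFlatOver_iff b (R p) (RPushQC.isQCoh_rpush f F hq p)).1 (hR p) V W hVW hV hW
    exact Module.Flat.of_linearEquiv ((εL p).toAddEquiv.toLinearEquiv (hεA p))
  obtain ⟨e, e', hb, hk⟩ := exists_model_sq Γ(S, W) Γ(S', W') r pairA Wc hWc hcov F₀ C n hF₀ n (Iso.refl _)
  let iG := CohFinite.hhEquiv Γ(Y', V') (CohPull.pullOnIso gX U U' (pre_le hX.w hle) F) n
  let Φ : Γ(R', V') ≃ₗ[Γ(Y', V')] Coh.HH U'.toScheme ((Scheme.Modules.pullback r).obj F₀) n :=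
    εL'.symm ≪≫ₗ iG.symm
  letI : Module Γ(S', W') Γ(R', V') := Module.compHom Γ(R', V') φ'.hom
  letI : Module Γ(S, W) Γ(R', V') := Module.compHom Γ(R', V') (φ'.hom.comp φg.hom)
  haveI : IsScalarTower Γ(S, W) Γ(S', W') Γ(R', V') := IsScalarTower.of_algebraMap_smul fun _ _ => rfl
  have hcomm : ∀ c, ψ (φ c) = φ' (φg c) := fun c => ConcreteCategory.congr_hom hpo.w c
  let k := RelTilde.resθ gY (Bc.φ n F) hle
  let k₀ : Γ(R n, V) →ₗ[Γ(S, W)] Γ(R', V') :=
    { toFun := k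
      map_add' := k.map_add
      map_smul' := fun c m => by
        refine (k.map_smulₛₗ (φ c) m).trans ?_
        exact congrArg (· • k m) (hcomm c) }
  have hpull : ∀ x : Coh.HH U.toScheme F₀ n, Φ (k (εL n x)) = CohPull.pullMod r F₀ n x := fun x => by
    change iG.symm (εL'.symm (k (εL n x))) = _
    rw [hεL n x]
    change iG.symm (εL'.symm (RelTilde.resθ gY (Bc.φ n F) hle (E.ε V F n x))) = _
    rw [resθ_ε Bc n F hle x, ← hεL']
    refine (congrArg iG.symm (εL'.symm_apply_apply _)).trans ?_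
    exact iG.symm_apply_apply (CohPull.pullMod r F₀ n x)
  let εA := (εL n).toAddEquiv.toLinearEquiv (hεA n)
  have key := liftBaseChange_iff C n hC Γ(S', W') k₀ (εA.symm ≪≫ₗ e) (Φ.toAddEquiv.trans e')
    (fun c y => by
      change e' (Φ (φ' c • y)) = _
      rw [map_smul]
      refine Eq.trans (congrArg e' ?_) (hb c (Φ y))
      change Coh.toGlobal sB' (φ' c) • Φ y = Coh.toGlobal (sB' ≫ Spec.map φ') c • Φ y
      exact congrArg (· • Φ y) (toGlobal_comp sB' φ' c).symm)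
    (fun s => by
      obtain ⟨x, rfl⟩ := εA.surjective s
      change e' (Φ (k (εL n x))) = _
      rw [hpull, hk]
      exact congrArg (fun t => ((CohIII.TFun C n).map (iotaB Γ(S, W) Γ(S', W'))).hom (e t))
        (εA.symm_apply_apply x).symm)
  refine ⟨V, hV, V', hV', hle, ⟨hzV, hzW'⟩, ?_⟩
  exact semiBij_of_generated (closure_eq_top_of_isPushout hpo) hcomm (fun _ _ => rfl) (fun _ _ => rfl) k k₀
    (fun _ => rfl) (key.2.2 (FlatCx.comparison_bijective C n hC
      (flat_opc_CC Γ(S, W) Wc hWc hcov F₀ hF₀ hC hH n) _))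

end Groth.Agent.W7Gen
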