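import Groth.Agent.W7Cech.Grauert
import Groth.Agent.W7Cech.NNBC

/-!
Linear algebra of `H(L) ⊗ M → H(L ⊗ M)`.
-/

set_option autoImplicit false
set_option backward.isDefEq.respectTransparency false
set_option backward.isDefEq.respectTransparency.types false
set_option linter.style.haveILetI false

universe u

open CategoryTheory CategoryTheory.Limits IsLocalRing
open Groth.Agent.FlatCx
open scoped TensorProduct

noncomputable section

namespace Groth.Agent.W7Gen

variable {A : Type u} [CommRing A] {κ : Type} {c : ComplexShape κ}
  (L : HomologicalComplex (ModuleCat.{u} A) c) (j : κ)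

/-- Base changing a map to `T(B)` is the comparison. -/
theorem liftBaseChange_iff (hL : ∀ i, Module.Flat A (L.X i)) (B : Type u) [CommRing B] [Algebra A B]
    {M N : Type u} [AddCommGroup M] [Module A M] [AddCommGroup N] [Module A N] [Module B N]
    [IsScalarTower A B N] (k : M →ₗ[A] N)
    (e : M ≃ₗ[A] (CohIII.T L j (ModuleCat.of A A) : Type u))
    (e' : N ≃+ (CohIII.T L j (ModuleCat.of A B) : Type u))
    (hb : ∀ (b : B) z, e' (b • z) =
      ((CohIII.TFun L j).map (ModuleCat.ofHom (LinearMap.mulLeft A b))).hom (e' z))
    (hk : ∀ x, e' (k x) = ((CohIII.TFun L j).map (ModuleCat.ofHom (Algebra.linearMap A B))).hom (e x)) :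
    (Function.Surjective (k.liftBaseChange B) ↔ Function.Surjective (comparison L j (ModuleCat.of A B))) ∧
      (Function.Bijective (k.liftBaseChange B) ↔ Function.Bijective (comparison L j (ModuleCat.of A B))) := by
  let e₀ : M ≃ₗ[A] Hm L j := e ≪≫ₗ (HmEquivT L hL j).symm
  let Φ : B ⊗[A] M ≃ₗ[A] Hm L j ⊗[A] B := TensorProduct.comm A B M ≪≫ₗ
    TensorProduct.congr e₀ (LinearEquiv.refl A B)
  have h : ⇑e' ∘ ⇑(k.liftBaseChange B) = ⇑(comparison L j (ModuleCat.of A B)) ∘ ⇑Φ := funext fun w => by
    induction w using TensorProduct.induction_on with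
    | zero => simp only [Function.comp_apply, map_zero]
    | tmul b m =>
      simp only [Function.comp_apply, LinearMap.liftBaseChange_tmul]
      rw [hb, hk]
      have h1 : comparison L j (ModuleCat.of A A) (e₀ m ⊗ₜ (1 : A)) = e m :=
        (HmEquivT L hL j).apply_symm_apply (e m)
      have h2 := comparison_natural L j (ModuleCat.ofHom (Algebra.linearMap A B)) (e₀ m ⊗ₜ[A] (1 : A))
      have h3 := comparison_natural L j (ModuleCat.ofHom (LinearMap.mulLeft A b))
        ((Algebra.linearMap A B).lTensor _ (e₀ m ⊗ₜ[A] (1 : A)))
      rw [← h1, ← h2]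
      refine h3.symm.trans (congrArg (comparison L j (ModuleCat.of A B)) ?_)
      change e₀ m ⊗ₜ[A] (b * algebraMap A B 1) = e₀ m ⊗ₜ[A] b
      rw [map_one, mul_one]
    | add u v hu hv =>
      simp only [Function.comp_apply, map_add] at hu hv ⊢
      rw [hu, hv]
  constructor
  · rw [← (Function.Surjective.of_comp_iff' e'.bijective ⇑(k.liftBaseChange B)), h,
      Function.Surjective.of_comp_iff _ Φ.surjective]
  · rw [← (Function.Bijective.of_comp_iff' e'.bijective ⇑(k.liftBaseChange B)), h,
      Function.Bijective.of_comp_iff _ Φ.bijective]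

/-- The comparison is surjective for flat modules. -/
theorem comparison_surjective_of_flat (hL : ∀ i, Module.Flat A (L.X i)) (M : ModuleCat.{u} A) [Module.Flat A M] :
    Function.Surjective (comparison L j M) := fun h => by
  let d := (L.d j (c.next j)).hom
  obtain ⟨z, rfl⟩ := cls_surjective L j M h
  have hex : Function.Exact ((Zc L j).subtype.rTensor M) (d.rTensor M) :=
    Module.Flat.rTensor_exact M (LinearMap.exact_subtype_ker_map d)
  obtain ⟨w, hw⟩ := (hex z.1).1 z.2
  refine ⟨(LinearMap.range (bd L j)).mkQ.rTensor M w, ?_⟩
  rw [comparison_mkQ]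
  exact congrArg (cls L j _) (Subtype.ext hw)

/-- Surjectivity of the comparison only depends on the module up to isomorphism. -/
theorem comparison_surjective_congr {M N : ModuleCat.{u} A} (e : M ≅ N) :
    Function.Surjective (comparison L j M) ↔ Function.Surjective (comparison L j N) := by
  suffices ∀ {M N : ModuleCat.{u} A}, (M ≅ N) → Function.Surjective (comparison L j M) →
      Function.Surjective (comparison L j N) from ⟨this e, this e.symm⟩
  intro M N e h y
  obtain ⟨y', rfl⟩ := ((CohIII.TFun L j).mapIso e).toLinearEquiv.surjective y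
  obtain ⟨w, rfl⟩ := h y'
  exact ⟨e.hom.hom.lTensor _ w, comparison_natural L j e.hom w⟩

variable (hL : ∀ i, Module.Finite A (L.X i) ∧ Module.Flat A (L.X i)) (hc : c.prev (c.next j) = j)

include hL hc in
/-- The comparison is surjective at the residue field of `x` exactly where the next opcycles are free. -/
theorem comparison_surjective_residue_iff (x : PrimeSpectrum A) :
    Function.Surjective (comparison L j (ModuleCat.of A x.asIdeal.ResidueField)) ↔
      x ∈ Module.freeLocus A (Opc L j (c.next j)) := by
  let S := Localization.AtPrime x.asIdeal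
  let P := CohIII.bcCx (algebraMap A S) L
  have hP' : ∀ m, Module.Finite S (P.X m) ∧ Module.Flat S (P.X m) := fun m =>
    haveI := (hL m).1
    ⟨W7Cech.finite_X_bc L m, flat_X_bc S L (fun i => (hL i).2) m⟩
  rw [← preservesEpi_localization_iff L hL j hc x,
    preservesEpi_iff_surjective_residue hP' (i := c.prev j) rfl rfl hc rfl]
  obtain ⟨η⟩ := W7Cech.nonempty_TFun_bcCx S (algebraMap A S) L j
  let Res := ModuleCat.restrictScalars.{u} (algebraMap A S)
  let q : Res.obj (ModuleCat.of S S) ⟶ Res.obj (ModuleCat.of S (ResidueField S)) := Res.map (toResidue S)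
  have hiff : Function.Surjective ((CohIII.TFun P j).map (toResidue S)).hom ↔
      Function.Surjective ((CohIII.TFun L j).map q).hom := by
    have hn := congrArg (fun t => ⇑(ModuleCat.Hom.hom t)) (η.hom.naturality (toResidue S))
    have b1 : Function.Bijective ((η.app (ModuleCat.of S S)).hom.hom) :=
      (η.app (ModuleCat.of S S)).toLinearEquiv.bijective
    have b2 : Function.Bijective ((η.app (ModuleCat.of S (ResidueField S))).hom.hom) :=
      (η.app (ModuleCat.of S (ResidueField S))).toLinearEquiv.bijective
    change ⇑((η.app _).hom.hom) ∘ ⇑((CohIII.TFun L j).map q).hom =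
      ⇑((CohIII.TFun P j).map (toResidue S)).hom ∘ ⇑((η.app _).hom.hom) at hn
    rw [← Function.Surjective.of_comp_iff _ b1.2, ← hn, Function.Surjective.of_comp_iff' b2]
  rw [hiff]
  have hq : Function.Surjective q.hom := fun y => Ideal.Quotient.mk_surjective (R := S) (I := maximalIdeal S) y
  let rS : Res.obj (ModuleCat.of S S) ≅ ModuleCat.of A S :=
    ({ toFun := fun a => a, invFun := fun a => a, left_inv := fun _ => rfl, right_inv := fun _ => rfl,
       map_add' := fun _ _ => rfl, map_smul' := fun a b => (Algebra.smul_def (A := S) a b).symm } :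
      (Res.obj (ModuleCat.of S S) : Type u) ≃ₗ[A] S).toModuleIso
  haveI : Module.Flat A S := IsLocalization.flat S x.asIdeal.primeCompl
  haveI : Module.Flat A (Res.obj (ModuleCat.of S S)) := Module.Flat.of_linearEquiv rS.toLinearEquiv
  have hk : Function.Surjective (comparison L j (Res.obj (ModuleCat.of S (ResidueField S)))) ↔
      Function.Surjective ((CohIII.TFun L j).map q).hom := by
    constructor
    · intro h y
      obtain ⟨w, rfl⟩ := h y
      obtain ⟨w', rfl⟩ := LinearMap.lTensor_surjective (Hm L j) hq w
      exact ⟨comparison L j _ w', (comparison_natural L j q w').symm⟩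
    · intro h y
      obtain ⟨y', rfl⟩ := h y
      obtain ⟨w, rfl⟩ := comparison_surjective_of_flat L j (fun i => (hL i).2) _ y'
      exact ⟨q.hom.lTensor _ w, comparison_natural L j q w⟩
  rw [← hk]
  let r : ResidueField S ≃+* x.asIdeal.ResidueField := RingEquiv.refl _
  let rk : Res.obj (ModuleCat.of S (ResidueField S)) ≅ ModuleCat.of A x.asIdeal.ResidueField :=
    ({ r.toAddEquiv with
       map_smul' := fun a b => by
        change (algebraMap A S a) • (show ResidueField S from b) = a • (show ResidueField S from b)
        exact IsScalarTower.algebraMap_smul S a (show ResidueField S from b) } :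
      (Res.obj (ModuleCat.of S (ResidueField S)) : Type u) ≃ₗ[A] x.asIdeal.ResidueField).toModuleIso
  exact (comparison_surjective_congr L j rk).symm

include hL hc in
/-- Surjectivity at all residue fields makes the next opcycles flat. -/
theorem flat_opc_of_surjective_residue [Module.FinitePresentation A (L.X (c.next j))]
    (h : ∀ x : PrimeSpectrum A, Function.Surjective (comparison L j (ModuleCat.of A x.asIdeal.ResidueField))) :
    Module.Flat A (Opc L j (c.next j)) := by
  haveI : Module.FinitePresentation A (Opc L j (c.next j)) :=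
    Module.finitePresentation_of_surjective (LinearMap.range (L.d j _).hom).mkQ (Submodule.mkQ_surjective _) (by
      haveI := (hL j).1
      rw [Submodule.ker_mkQ, LinearMap.range_eq_map]
      exact Module.Finite.fg_top.map _)
  haveI := Module.freeLocus_eq_univ_iff.1 (Set.eq_univ_of_forall fun x =>
    (comparison_surjective_residue_iff L j hL hc x).1 (h x))
  infer_instance

end Groth.Agent.W7Gen
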