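import Groth.Agent.W7Gen.Sect
import Groth.Agent.CohFinite.Linear

/-!
The comparison is linear over the functions on the open of the base.
-/

set_option autoImplicit false
set_option backward.isDefEq.respectTransparency false
set_option linter.style.haveILetI false

universe u

open CategoryTheory CategoryTheory.Limits AlgebraicGeometry TopologicalSpace Opposite Abelian
open Groth.Agent.QC (res resO res_res res_self res_smul app_res resO_resO resO_self)

noncomputable section

namespace Groth.Agent.W7Gen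

variable {X Y : Scheme.{u}} (f : X ⟶ Y)

/-- A function on `V` as a global function on `f⁻¹ V`. -/
def actFun (V : Y.Opens) (a : Γ(Y, V)) : Coh.Γtop (f ⁻¹ᵁ V).toScheme :=
  (f ∣_ V).appTop (V.topIso.inv a)

lemma resO_actFun (V : Y.Opens) (a : Γ(Y, V)) :
    resO X (f ⁻¹ᵁ V).ι_image_top.ge (show Γ(X, (f ⁻¹ᵁ V).ι ''ᵁ ⊤) from actFun f V a) = f.app V a := by
  have hca : resO Y V.ι_image_top.ge (show Γ(Y, V.ι ''ᵁ ⊤) from V.topIso.inv a) = a := by
    refine Eq.trans (congrArg (resO Y V.ι_image_top.ge) ?_)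
      ((resO_resO V.ι_image_top.ge V.ι_image_top.le a).trans (resO_self le_rfl a))
    rfl
  refine Eq.trans ?_ (congrArg (f.app V) hca)
  rw [actFun, morphismRestrict_appTop]
  change resO X _ (X.presheaf.map _ (f.app _ (V.topIso.inv a))) = f.app V (Y.presheaf.map _ (V.topIso.inv a))
  refine Eq.trans ?_ (ConcreteCategory.congr_hom (f.naturality _) (V.topIso.inv a)).symm
  exact (ConcreteCategory.congr_hom (X.presheaf.map_comp _ _) _).symm

variable [HasInjectiveResolutions X.Modules] {f} {Δ : RDer.DerivedLES (Scheme.Modules.pushforward f)}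

/-- The comparison is linear. -/
theorem ε_act (E : CohCmp.SectCmp f Δ) : ∀ (p : ℕ) (F : X.Modules) (V : Y.Opens) (a : Γ(Y, V))
    (x : Coh.HHon X F (f ⁻¹ᵁ V) p),
    E.ε V F p (Sheaf.H.map (Coh.smulAb (F.restrict (f ⁻¹ᵁ V).ι) (actFun f V a)) p x) = a • E.ε V F p x
  | 0, F, V, a, x => by
    obtain ⟨s, rfl⟩ := sectH0_surjective F _ x
    let U := f ⁻¹ᵁ V
    let r := actFun f V a
    have key : Sheaf.H.map (Coh.smulAb (F.restrict U.ι) r) 0 (CohPull.sectH0 F U s) =
        CohPull.sectH0 F U (f.app V a • s) := by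
      apply (Sheaf.H.equiv₀ (Coh.toAb (F.restrict U.ι)) (isTerminalTop : IsTerminal (⊤ : U.toScheme.Opens))).injective
      refine (Sheaf.H.equiv₀_naturality (hT := (isTerminalTop : IsTerminal (⊤ : U.toScheme.Opens)))
        (f := Coh.smulAb (F.restrict U.ι) r) (x := CohPull.sectH0 F U s)).symm.trans ?_
      refine (congrArg ((Coh.smulAb (F.restrict U.ι) r).hom.app (op ⊤)) (equiv₀_sectH0 F U s)).trans ?_
      refine Eq.trans ?_ (equiv₀_sectH0 F U (f.app V a • s)).symm
      refine (Coh.smulAb_app (F.restrict U.ι) r (op ⊤) _).trans ?_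
      have h1 : Coh.resTop U.toScheme (op (⊤ : U.toScheme.Opens)) r = r := resO_self (X := U.toScheme) le_rfl r
      rw [res_smul]
      refine Eq.trans ?_ (congrArg (fun c : Γ(X, U.ι ''ᵁ ⊤) => c • res F U.ι_image_top.le s)
        ((congrArg (resO X U.ι_image_top.le) (resO_actFun f V a)).symm.trans
          ((resO_resO _ _ _).trans (resO_self le_rfl _))).symm)
      refine (congrArg (fun c : Γ(U.toScheme, ⊤) => c • (show Γ(F.restrict U.ι, ⊤) from res F U.ι_image_top.le s)) h1).trans ?_
      refine (F.smul_restrictAppIso_hom_apply U.ι ⊤ r (res F U.ι_image_top.le s)).trans ?_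
      rw [Scheme.Opens.ι_appIso]
      rfl
    rw [key, E.zero, E.zero]
    exact Scheme.Modules.Hom.app_smul ((Scheme.Modules.pushforward f).toRightDerivedZero.app F) a s
  | p + 1, F, V, a, x => by
    obtain ⟨y, rfl⟩ := exists_extδ F _ p x
    have hS := emb_shortExact F
    have hV := restr_shortExact hS (f ⁻¹ᵁ V)
    let ψ : (emb F).map (CohCmp.toAbOn X (f ⁻¹ᵁ V)) ⟶ (emb F).map (CohCmp.toAbOn X (f ⁻¹ᵁ V)) :=
      CohFinite.smulSeq ((emb F).map (Scheme.Modules.restrictFunctor (f ⁻¹ᵁ V).ι)) (actFun f V a)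
    have e1 := CohFinite.δH_natural hV hV ψ p y
    refine (congrArg (E.ε V _ (p + 1)) e1.symm).trans ((E.delta V (emb F) hS hV p _).trans ?_)
    refine (congrArg ((Δ.δ (emb F) hS p (p + 1) rfl).app V) (ε_act E p (emb F).X₃ V a y)).trans ?_
    refine (Scheme.Modules.Hom.app_smul (Δ.δ (emb F) hS p (p + 1) rfl) a _).trans ?_
    exact congrArg (a • ·) (E.delta V (emb F) hS hV p y).symm

end Groth.Agent.W7Gen
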