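import Mathlib.RingTheory.TensorProduct.IsBaseChangePi
import Mathlib.RingTheory.IsTensorProduct

/-!
Base change along a ring map of a semilinear map.
-/

universe u

open scoped TensorProduct

noncomputable section

namespace Groth.Agent.W7Gen

variable {A B M N : Type u} [CommRing A] [CommRing B] {φ : A →+* B} [AddCommGroup M] [Module A M]
  [AddCommGroup N] [Module B N]

/-- The linear map underlying a semilinear one, for an algebra structure with the given structure map. -/
def linOf [Algebra A B] [Module A N] [IsScalarTower A B N] (hφ : φ = algebraMap A B) (k : M →ₛₗ[φ] N) :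
    M →ₗ[A] N where
  toFun := k
  map_add' := k.map_add
  map_smul' a m := by
    subst hφ
    rw [map_smulₛₗ, RingHom.id_apply, IsScalarTower.algebraMap_smul]

/-- `k` is a base change along `φ`. -/
def SemiBij (k : M →ₛₗ[φ] N) : Prop :=
  ∀ (Q : Type u) [AddCommGroup Q] [Module B Q] (w : M →ₛₗ[φ] Q), ∃! f : N →ₗ[B] Q, ∀ m, f (k m) = w m

/-- `B ⊗_A M → N` is surjective. -/
def SemiSurj (k : M →ₛₗ[φ] N) : Prop := Submodule.span B (Set.range k) = ⊤

theorem semiSurj_iff [Algebra A B] [Module A N] [IsScalarTower A B N] (hφ : φ = algebraMap A B) (k : M →ₛₗ[φ] N) :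
    SemiSurj k ↔ Function.Surjective ((linOf hφ k).liftBaseChange B) := by
  rw [SemiSurj, ← LinearMap.range_eq_top, LinearMap.range_liftBaseChange]
  exact Iff.rfl

/-- A bijective lift has the universal property. -/
theorem semiBij_of_bijective [Algebra A B] [Module A N] [IsScalarTower A B N] (hφ : φ = algebraMap A B)
    (k : M →ₛₗ[φ] N) (h : Function.Bijective ((linOf hφ k).liftBaseChange B)) : SemiBij k := by
  intro Q _ _ w
  letI := Module.compHom Q (algebraMap A B)
  haveI : IsScalarTower A B Q := IsScalarTower.of_algebraMap_smul fun _ _ => rfl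
  let e := LinearEquiv.ofBijective _ h
  refine ⟨((linOf hφ w).liftBaseChange B) ∘ₗ e.symm.toLinearMap, fun m => ?_, fun f hf => ?_⟩
  · have hm : e.symm (k m) = (1 : B) ⊗ₜ[A] m := by
      rw [LinearEquiv.symm_apply_eq]
      change k m = (linOf hφ k).liftBaseChange B ((1 : B) ⊗ₜ[A] m)
      rw [LinearMap.liftBaseChange_tmul, one_smul]
      rfl
    rw [LinearMap.comp_apply, LinearEquiv.coe_coe, hm, LinearMap.liftBaseChange_tmul, one_smul]
    rfl
  · refine LinearMap.ext fun n => ?_
    obtain ⟨z, rfl⟩ := e.surjective n
    rw [LinearMap.comp_apply, LinearEquiv.coe_coe, LinearEquiv.symm_apply_apply]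
    induction z using TensorProduct.induction_on with
    | zero => simp only [map_zero]
    | tmul b m =>
      change f ((linOf hφ k).liftBaseChange B (b ⊗ₜ[A] m)) = _
      rw [LinearMap.liftBaseChange_tmul, LinearMap.liftBaseChange_tmul, map_smul]
      exact congrArg (b • ·) (hf m)
    | add x y hx hy => simp only [map_add, hx, hy]

end Groth.Agent.W7Gen
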