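import Groth.Agent.W7Gen.Model
import Groth.Agent.W7Gen.Alg
import Groth.Agent.W7Gen.Semi
import Groth.Agent.W7Gen.Affine
import Groth.Agent.W7Gen.SectLin
import Groth.Agent.SymAlg.PullBC
import Groth.Agent.InvGen.Basic
import Groth.Agent.QC.AffineSpec
import Groth.Agent.RPushQC.Main

/-!
`CohCmp.GenBC.bc` read on affine opens.
-/

set_option autoImplicit false
set_option backward.isDefEq.respectTransparency false
set_option linter.style.haveILetI false

universe u

open CategoryTheory CategoryTheory.Limits AlgebraicGeometry TopologicalSpace Opposite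
open Groth.Agent.QC (res resO res_res res_self res_smul app_res)
open Groth.Agent.W7Cech (CC)
open Groth.Agent.SiteCoh Groth.Agent.ProjCech
open Groth.Agent.FlatCx (comparison)

noncomputable section

namespace Groth.Agent.W7Gen

variable {X S X' S' : Scheme.{u}} {f : X ⟶ S} {g : S' ⟶ S} {f' : X' ⟶ S'} {g' : X' ⟶ X}

section Sheaf

variable {R : S.Modules} {N : S'.Modules} (θ : R ⟶ (Scheme.Modules.pushforward g).obj N)

local notation "adjg" => Scheme.Modules.pullbackPushforwardAdjunction g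

lemma symm_app_resθ {V : S.Opens} {V' : S'.Opens} (hle : V' ≤ g ⁻¹ᵁ V) (s : Γ(R, V)) :
    (((adjg).homEquiv R N).symm θ).app V' (RelTilde.resθ g ((adjg).unit.app R) hle s) =
      RelTilde.resθ g θ hle s := by
  let ν := ((adjg).homEquiv R N).symm θ
  have h1 : (adjg).unit.app R ≫ (Scheme.Modules.pushforward g).map ν = θ :=
    ((adjg).homEquiv_unit R N ν).symm.trans (Equiv.apply_symm_apply _ θ)
  exact (app_res ν hle ((adjg).unit.app R |>.app V s)).symm.trans (congrArg (res N hle) (congr(($h1).app V s)))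

/-- The transpose is an isomorphism if sections base change. -/
theorem isIso_symm_of_semiBij (hR : Coh.IsQCoh R) (hN : Coh.IsQCoh N)
    (H : ∀ z : S', ∃ (V : S.Opens) (_ : IsAffineOpen V) (V' : S'.Opens) (_ : IsAffineOpen V')
      (hle : V' ≤ g ⁻¹ᵁ V), z ∈ V' ∧ SemiBij (RelTilde.resθ g θ hle)) :
    IsIso (((adjg).homEquiv R N).symm θ) :=
  RelTilde.isIso_adjunct g θ hR hN H

/-- If the transpose is an epimorphism, sections span. -/
theorem semiSurj_of_epi (hR : Coh.IsQCoh R) (hN : Coh.IsQCoh N) [Epi (((adjg).homEquiv R N).symm θ)]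
    {V : S.Opens} (hV : IsAffineOpen V) {V' : S'.Opens} (hV' : IsAffineOpen V') (hle : V' ≤ g ⁻¹ᵁ V) :
    SemiSurj (RelTilde.resθ g θ hle) := by
  let ν := ((adjg).homEquiv R N).symm θ
  let R' := (Scheme.Modules.pullback g).obj R
  let η := (adjg).unit.app R
  have hspan : Submodule.span Γ(S', V') (Set.range (RelTilde.resθ g η hle)) = ⊤ := by
    let P := Submodule.span Γ(S', V') (Set.range (RelTilde.resθ g η hle))
    obtain ⟨q, -, huniq⟩ := RelTilde.isBC_unit g hR hV hV' hle (Γ(R', V') ⧸ P) 0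
    have h0 : P.mkQ = 0 := (huniq P.mkQ fun m => (Submodule.Quotient.mk_eq_zero P).2
      (Submodule.subset_span ⟨m, rfl⟩)).trans (huniq 0 fun m => rfl).symm
    exact P.ker_mkQ.symm.trans (by rw [h0, LinearMap.ker_zero])
  have hk : Coh.IsQCoh (kernel ν) := QC.isQCoh_kernel (QC.isQCoh_pullback g hR) hN ν
  haveI : (kernel ν).IsQuasicoherent := hk
  have hS : (ShortComplex.mk (kernel.ι ν) ν (kernel.condition _)).ShortExact :=
    { exact := ShortComplex.exact_of_f_is_kernel _ (kernelIsKernel _)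
      mono_f := inferInstanceAs (Mono (kernel.ι _))
      epi_g := inferInstanceAs (Epi ν) }
  have hsurj : Function.Surjective (ν.app V') :=
    app_surjective_of_acyAt hS fun q => CohQC.hu_vanish_of_isAffineOpen _ hV' q
  refine eq_top_iff.2 fun y _ => ?_
  obtain ⟨z, rfl⟩ := hsurj y
  have hz : z ∈ Submodule.span Γ(S', V') (Set.range (RelTilde.resθ g η hle)) := hspan ▸ trivial
  induction hz using Submodule.span_induction with
  | mem z hz =>
    obtain ⟨s, rfl⟩ := hz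
    rw [symm_app_resθ θ hle s]
    exact Submodule.subset_span ⟨s, rfl⟩
  | zero => rw [map_zero]; exact Submodule.zero_mem _
  | add a b _ _ ha hb => rw [map_add]; exact Submodule.add_mem _ (ha trivial) (hb trivial)
  | smul r a _ ha => rw [Scheme.Modules.Hom.app_smul]; exact Submodule.smul_mem _ r (ha trivial)

/-- Over a point, spanning gives an epimorphism. -/
theorem epi_symm_of_semiSurj [Subsingleton S'] {V : S.Opens} (hle : (⊤ : S'.Opens) ≤ g ⁻¹ᵁ V)
    (h : SemiSurj (RelTilde.resθ g θ hle)) : Epi (((adjg).homEquiv R N).symm θ) := by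
  let ν := ((adjg).homEquiv R N).symm θ
  refine InvGen.epi_of_locally ν fun U t x hx => ?_
  have hU : U = ⊤ := eq_top_iff.2 fun y _ => (Subsingleton.elim x y) ▸ hx
  subst hU
  refine ⟨⊤, le_rfl, trivial, ?_⟩
  rw [res_self]
  have ht : t ∈ Submodule.span Γ(S', ⊤) (Set.range (RelTilde.resθ g θ hle)) := by rw [h]; trivial
  induction ht using Submodule.span_induction with
  | mem z hz =>
    obtain ⟨s, rfl⟩ := hz
    exact ⟨_, symm_app_resθ θ hle s⟩
  | zero => exact ⟨0, map_zero _⟩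
  | add a b _ _ ha hb =>
    obtain ⟨a', rfl⟩ := ha
    obtain ⟨b', rfl⟩ := hb
    exact ⟨a' + b', map_add _ _ _⟩
  | smul r a _ ha =>
    obtain ⟨a', rfl⟩ := ha
    exact ⟨r • a', Scheme.Modules.Hom.app_smul _ _ _⟩

end Sheaf

section Pair

lemma pre_le (w : g' ≫ f = f' ≫ g) {V : S.Opens} {V' : S'.Opens} (hle : V' ≤ g ⁻¹ᵁ V) :
    f' ⁻¹ᵁ V' ≤ g' ⁻¹ᵁ (f ⁻¹ᵁ V) :=
  (f'.preimage_mono hle).trans (CohCmp.sqLE f g f' g' w V)

/-- The square over a pair of affine opens. -/
lemma isPullback_pair (h : IsPullback g' f' f g) {V : S.Opens} (hV : IsAffineOpen V) {V' : S'.Opens}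
    (hV' : IsAffineOpen V') (hle : V' ≤ g ⁻¹ᵁ V) :
    IsPullback (g'.resLE (f ⁻¹ᵁ V) (f' ⁻¹ᵁ V') (pre_le h.w hle)) ((f' ∣_ V') ≫ hV'.isoSpec.hom)
      ((f ∣_ V) ≫ hV.isoSpec.hom) (Spec.map (g.appLE V V' hle)) := by
  let k := g'.resLE (f ⁻¹ᵁ V) (f' ⁻¹ᵁ V') (pre_le h.w hle)
  let b := g.resLE V V' hle
  have hk : k ≫ (f ⁻¹ᵁ V).ι = (f' ⁻¹ᵁ V').ι ≫ g' := Scheme.Hom.resLE_comp_ι _ _
  have hb : b ≫ V.ι = V'.ι ≫ g := Scheme.Hom.resLE_comp_ι _ _
  have h1 : IsPullback (k ≫ (f ⁻¹ᵁ V).ι) (f' ∣_ V') f (b ≫ V.ι) := by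
    rw [hk, hb]
    exact ((isPullback_morphismRestrict f' V').flip).paste_horiz h
  have h2 : k ≫ (f ∣_ V) = (f' ∣_ V') ≫ b := by
    rw [← cancel_mono V.ι, Category.assoc, Category.assoc, morphismRestrict_ι, ← Category.assoc, hk, Category.assoc,
      hb, h.w, ← Category.assoc, ← morphismRestrict_ι, Category.assoc]
  refine (IsPullback.of_right h1 h2 (isPullback_morphismRestrict f V).flip).of_iso (Iso.refl _) (Iso.refl _)
    hV'.isoSpec hV.isoSpec ?_ ?_ ?_ ?_
  · simp [k]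
  · simp
  · simp
  · rw [← cancel_mono hV.isoSpec.inv, Category.assoc, Iso.hom_inv_id, Category.comp_id, ← cancel_mono V.ι,
      Category.assoc, Category.assoc, hb, IsAffineOpen.isoSpec_inv_ι,
      IsAffineOpen.SpecMap_appLE_fromSpec g hV hV' hle, ← IsAffineOpen.isoSpec_inv_ι hV', Category.assoc,
      Iso.hom_inv_id_assoc]

variable [HasInjectiveResolutions X.Modules] [HasInjectiveResolutions X'.Modules]
  {Δ : RDer.DerivedLES (Scheme.Modules.pushforward f)} {Δ' : RDer.DerivedLES (Scheme.Modules.pushforward f')}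
  {E : CohCmp.SectCmp f Δ} {E' : CohCmp.SectCmp f' Δ'}

/-- The base change map on the sections coming from classes. -/
lemma resθ_ε {w : g' ≫ f = f' ≫ g} (B : CohCmp.GenBC f g f' g' w E E') (p : ℕ) (F : X.Modules) {V : S.Opens}
    {V' : S'.Opens} (hle : V' ≤ g ⁻¹ᵁ V) (x : Coh.HHon X F (f ⁻¹ᵁ V) p) :
    RelTilde.resθ g (B.φ p F) hle (E.ε V F p x) =
      E'.ε V' ((Scheme.Modules.pullback g').obj F) p
        (CohPull.pullOn g' (f ⁻¹ᵁ V) (f' ⁻¹ᵁ V') (pre_le w hle) F p x) := by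
  change res _ hle ((B.φ p F).app V (E.ε V F p x)) = _
  refine (congrArg (res _ hle) (B.compat V F p x)).trans ?_
  refine (ε_res E' p _ hle (h' := f'.preimage_mono hle) _).symm.trans ?_
  exact congrArg (E'.ε V' _ p) (resLE_pullOn' (U := f ⁻¹ᵁ V) (U' := f' ⁻¹ᵁ (g ⁻¹ᵁ V)) (U'' := f' ⁻¹ᵁ V') g' F
    (CohCmp.sqLE f g f' g' w V) (f'.preimage_mono hle) (pre_le w hle) p x)

/-- On a pair of affine opens the base change map is the comparison of any complex computing the
cohomology of `F ⊗ -`. -/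
theorem semiBij_semiSurj_iff (h : IsPullback g' f' f g) (B : CohCmp.GenBC f g f' g' h.w E E')
    [IsSeparated f] [QuasiCompact f] (F : X.Modules) (hF : Coh.IsQCoh F) (p : ℕ)
    {V : S.Opens} (hV : IsAffineOpen V) {V' : S'.Opens} (hV' : IsAffineOpen V') (hle : V' ≤ g ⁻¹ᵁ V)
    {ι : Type u} [Finite ι] (W : ι → (f ⁻¹ᵁ V).toScheme.Opens)
    (hW : ∀ (n : ℕ) (a : Fin (n + 1) → ι), IsAffineOpen (tupleProd W a)) (hcov : iSup W = ⊤)
    {κ : Type} {c : ComplexShape κ} (L : HomologicalComplex (ModuleCat.{u} Γ(S, V)) c) (j : κ)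
    (hL : ∀ i, Module.Flat Γ(S, V) (L.X i))
    (τ : letI : (f ⁻¹ᵁ V).toScheme.Over (Spec (CommRingCat.of Γ(S, V))) := ⟨(f ∣_ V) ≫ hV.isoSpec.hom⟩
      CohIII.TFun L j ≅ CohIII.TFun ((CC Γ(S, V) W).obj (F.restrict (f ⁻¹ᵁ V).ι)) p) :
    letI := (g.appLE V V' hle).hom.toAlgebra
    (SemiSurj (RelTilde.resθ g (B.φ p F) hle) ↔
        Function.Surjective (comparison L j (ModuleCat.of Γ(S, V) Γ(S', V')))) ∧
      (Function.Bijective (comparison L j (ModuleCat.of Γ(S, V) Γ(S', V'))) →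
        SemiBij (RelTilde.resθ g (B.φ p F) hle)) := by
  let U := f ⁻¹ᵁ V
  let U' := f' ⁻¹ᵁ V'
  let r := g'.resLE U U' (pre_le h.w hle)
  letI := (g.appLE V V' hle).hom.toAlgebra
  letI : U.toScheme.Over (Spec (CommRingCat.of Γ(S, V))) := ⟨(f ∣_ V) ≫ hV.isoSpec.hom⟩
  letI : U'.toScheme.Over (Spec (CommRingCat.of Γ(S', V'))) := ⟨(f' ∣_ V') ≫ hV'.isoSpec.hom⟩
  have sq : IsPullback r (U'.toScheme ↘ Spec (CommRingCat.of Γ(S', V'))) (U.toScheme ↘ Spec (CommRingCat.of Γ(S, V)))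
      (Spec.map (CommRingCat.ofHom (algebraMap Γ(S, V) Γ(S', V')))) := isPullback_pair h hV hV' hle
  haveI : IsSeparated f' := MorphismProperty.of_isPullback (P := @IsSeparated) h inferInstance
  haveI : QuasiCompact f' := MorphismProperty.of_isPullback (P := @QuasiCompact) h inferInstance
  let F₀ := F.restrict U.ι
  have hF₀ : Coh.IsQCoh F₀ := Groth.Agent.QC.isQCoh_restrict _ hF
  let G := (Scheme.Modules.pullback g').obj F
  have hG : Coh.IsQCoh G := QC.isQCoh_pullback g' hF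
  obtain ⟨e, e', hb, hk⟩ := exists_model_sq Γ(S, V) Γ(S', V') r sq W hW hcov F₀ L j hF₀ p τ
  let R := (Coh.Rpush f p).obj F
  let R' := (Coh.Rpush f' p).obj G
  let εL : Coh.HH U.toScheme F₀ p ≃ₗ[Γ(S, V)] Γ(R, V) :=
    (AddEquiv.ofBijective (E.ε V F p) (ε_bijective_affine E F hF hV p)).toLinearEquiv fun a x => by
      refine Eq.trans ?_ (ε_act E p F V a x)
      refine congrArg (fun t => E.ε V F p (Sheaf.H.map (Coh.smulAb F₀ t) p x)) ?_
      change ((f ∣_ V) ≫ hV.isoSpec.hom).appTop ((Scheme.ΓSpecIso (CommRingCat.of Γ(S, V))).inv a) = _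
      rw [Scheme.Hom.comp_appTop]
      refine congrArg (f ∣_ V).appTop ?_
      rw [IsAffineOpen.isoSpec_hom_appTop]
      exact congrArg V.topIso.inv (ConcreteCategory.congr_hom (Scheme.ΓSpecIso Γ(S, V)).inv_hom_id a)
  let εL' : Coh.HH U'.toScheme (G.restrict U'.ι) p ≃ₗ[Γ(S', V')] Γ(R', V') :=
    (AddEquiv.ofBijective (E'.ε V' G p) (ε_bijective_affine E' G hG hV' p)).toLinearEquiv fun a x => by
      refine Eq.trans ?_ (ε_act E' p G V' a x)
      refine congrArg (fun t => E'.ε V' G p (Sheaf.H.map (Coh.smulAb (G.restrict U'.ι) t) p x)) ?_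
      change ((f' ∣_ V') ≫ hV'.isoSpec.hom).appTop ((Scheme.ΓSpecIso (CommRingCat.of Γ(S', V'))).inv a) = _
      rw [Scheme.Hom.comp_appTop]
      refine congrArg (f' ∣_ V').appTop ?_
      rw [IsAffineOpen.isoSpec_hom_appTop]
      exact congrArg V'.topIso.inv (ConcreteCategory.congr_hom (Scheme.ΓSpecIso Γ(S', V')).inv_hom_id a)
  let iG := CohFinite.hhEquiv Γ(S', V') (CohPull.pullOnIso g' U U' (pre_le h.w hle) F) p
  let Φ : Γ(R', V') ≃ₗ[Γ(S', V')] Coh.HH U'.toScheme ((Scheme.Modules.pullback r).obj F₀) p :=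
    εL'.symm ≪≫ₗ iG.symm
  letI : Module Γ(S, V) Γ(R', V') := Module.compHom Γ(R', V') (algebraMap Γ(S, V) Γ(S', V'))
  haveI : IsScalarTower Γ(S, V) Γ(S', V') Γ(R', V') := IsScalarTower.of_algebraMap_smul fun _ _ => rfl
  let k := linOf (φ := (g.appLE V V' hle).hom) rfl (RelTilde.resθ g (B.φ p F) hle)
  have hpull : ∀ x : Coh.HH U.toScheme F₀ p, Φ (k (εL x)) = CohPull.pullMod r F₀ p x := fun x => by
    change iG.symm (εL'.symm (RelTilde.resθ g (B.φ p F) hle (E.ε V F p x))) = _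
    rw [resθ_ε B p F hle x]
    refine (congrArg iG.symm (εL'.symm_apply_apply _)).trans ?_
    exact iG.symm_apply_apply (CohPull.pullMod r F₀ p x)
  have key := liftBaseChange_iff L j hL Γ(S', V') k (εL.symm ≪≫ₗ e) (Φ.toAddEquiv.trans e')
    (fun b z => by
      change e' (Φ (b • z)) = _
      rw [map_smul]
      exact hb b (Φ z))
    (fun s => by
      obtain ⟨x, rfl⟩ := εL.surjective s
      change e' (Φ (k (εL x))) = _
      rw [hpull, hk]
      exact congrArg (fun t => ((CohIII.TFun L j).map (iotaB Γ(S, V) Γ(S', V'))).hom (e t))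
        (εL.symm_apply_apply x).symm)
  exact ⟨(semiSurj_iff (φ := (g.appLE V V' hle).hom) rfl _).trans key.1,
    fun hc => semiBij_of_bijective (φ := (g.appLE V V' hle).hom) rfl _ (key.2.2 hc)⟩

end Pair

end Groth.Agent.W7Gen
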