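import Groth.Agent.TMul.Basic

/-!
Maps out of a tensor product of modules from bilinear maps on sections.
-/

set_option autoImplicit false
set_option backward.isDefEq.respectTransparency false
set_option backward.isDefEq.respectTransparency.types false

universe u

open CategoryTheory AlgebraicGeometry TopologicalSpace Opposite
open Groth.Agent.QC (res resO res_res res_smul resO_resO app_res)
open scoped TensorProduct

noncomputable section

namespace Groth.Agent.W7Gen

variable {X : Scheme.{u}} {M N P : X.Modules}
  (b : ∀ W : X.Opens, Γ(M, W) →ₗ[Γ(X, W)] Γ(N, W) →ₗ[Γ(X, W)] Γ(P, W))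
  (hb : ∀ {V W : X.Opens} (h : V ≤ W) (m : Γ(M, W)) (n : Γ(N, W)),
    res P h (b W m n) = b V (res M h m) (res N h n))

/-- The map on the presheaf tensor product. -/
def descPre : (CohB1.tensorPre M N : X.PresheafOfModules) ⟶
    (PresheafOfModules.restrictScalars (𝟙 X.ringCatSheaf.obj)).obj P.val where
  app W := ConcreteCategory.ofHom
    { toFun := fun p => TensorProduct.lift (b W.unop) p
      map_add' := fun p q => map_add (TensorProduct.lift (b W.unop)) p q
      map_smul' := fun r p => (TensorProduct.lift (b W.unop)).map_smul r p }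
  naturality {W V} i := by
    refine ModuleCat.hom_ext (TensorProduct.ext' fun m n => ?_)
    exact (hb (leOfHom i.unop) m n).symm

/-- The map out of the tensor product. -/
def desc : CohB1.tensorMod M N ⟶ P :=
  ((PresheafOfModules.sheafificationAdjunction (𝟙 X.ringCatSheaf.obj)).homEquiv _ _).symm (descPre b hb)

theorem desc_tm {W : X.Opens} (m : Γ(M, W)) (n : Γ(N, W)) :
    (desc b hb).app W (TMul.tm m n) = b W m n := by
  let adj := PresheafOfModules.sheafificationAdjunction (𝟙 X.ringCatSheaf.obj)
  have h : adj.unit.app _ ≫ (SheafOfModules.forget _ ⋙ PresheafOfModules.restrictScalars (𝟙 X.ringCatSheaf.obj)).map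
      (desc b hb) = descPre b hb :=
    (adj.homEquiv_unit _ _ _).symm.trans (Equiv.apply_symm_apply _ _)
  exact congr(($h).app (op W) (m ⊗ₜ[Γ(X, W)] n))

end Groth.Agent.W7Gen
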