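import Groth.Agent.W7Gen.ResLE
set_option autoImplicit false
set_option backward.isDefEq.respectTransparency false
set_option linter.style.haveILetI false
set_option maxHeartbeats 1600000
universe u
open CategoryTheory CategoryTheory.Limits AlgebraicGeometry TopologicalSpace Opposite Abelian
open Groth.Agent.QC (res resO res_res res_self res_smul app_res)
noncomputable section
namespace Groth.Agent.W7Gen
variable {X Y Z : Scheme.{u}}
lemma resLE_trans (F : X.Modules) {U U' U'' : X.Opens} (h : U' ≤ U) (h' : U'' ≤ U') (p : ℕ)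
    (x : Coh.HHon X F U p) : CohPull.resLE F h' p (CohPull.resLE F h p x) = CohPull.resLE F (h'.trans h) p x := by
  rw [resLE_eq, resLE_eq, resLE_eq]
  have hr : rI h' ≫ rI h = rI (h'.trans h) := by rw [← cancel_mono U.ι, Category.assoc, rI_ι, rI_ι, rI_ι]
  refine PM_comp (rI h') (rI h) (rI (h'.trans h)) hr (rhoMod F h') (rhoMod F h) (rhoMod F (h'.trans h))
    (fun W s => ?_) p x
  have a1 := rhoMod_app F h W s
  have a2 := rhoMod_app F h' ((rI h) ⁻¹ᵁ W) (res F (rI_image_le h W) s)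
  have a3 := rhoMod_app F (h'.trans h) W s
  let P := F.restrict U''.ι
  let e : (rI (h'.trans h)) ⁻¹ᵁ W = (rI h') ⁻¹ᵁ ((rI h) ⁻¹ᵁ W) := by rw [← hr]; rfl
  refine a3.trans (Eq.symm ?_)
  refine (congrArg (fun z => P.presheaf.map (eqToHom e).op ((rhoMod F h').app ((rI h) ⁻¹ᵁ W) z)) a1).trans
    ((congrArg (P.presheaf.map (eqToHom e).op) (a2.trans (res_res F _ _ s))).trans ?_)
  exact map_map F (homOfLE ((rI_image_le h' _).trans (rI_image_le h W))).op (U''.ι.opensFunctor.map (eqToHom e)).op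
    (homOfLE (rI_image_le (h'.trans h) W)).op s

lemma resLE_pullOn (g : X ⟶ Y) (F : Y.Modules) {U : Y.Opens} {U' U'' : X.Opens} (h : U' ≤ g ⁻¹ᵁ U)
    (h' : U'' ≤ U') (p : ℕ) (x : Coh.HHon Y F U p) :
    CohPull.resLE ((Scheme.Modules.pullback g).obj F) h' p (CohPull.pullOn g U U' h F p x) =
      CohPull.pullOn g U U'' (h'.trans h) F p x := by
  rw [resLE_eq, pullOn_eq_PM, pullOn_eq_PM]
  let G := (Scheme.Modules.pullback g).obj F
  have hr : rI h' ≫ g.resLE U U' h = g.resLE U U'' (h'.trans h) := by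
    rw [← cancel_mono U.ι, Category.assoc, Scheme.Hom.resLE_comp_ι, Scheme.Hom.resLE_comp_ι, ← Category.assoc, rI_ι]
  refine PM_comp (rI h') (g.resLE U U' h) (g.resLE U U'' (h'.trans h)) hr (rhoMod G h') (xiMod g U U' h F)
    (xiMod g U U'' (h'.trans h) F) (fun W s => ?_) p x
  have a1 := xiMod_app g U U' h F W s
  have a2 := rhoMod_app G h' ((g.resLE U U' h) ⁻¹ᵁ W)
    (res G (image_preimage_resLE g U U' h W) (OmegaSh.pullSect g F (U.ι ''ᵁ W) s))
  have a3 := xiMod_app g U U'' (h'.trans h) F W s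
  let P := G.restrict U''.ι
  let e : (g.resLE U U'' (h'.trans h)) ⁻¹ᵁ W = (rI h') ⁻¹ᵁ ((g.resLE U U' h) ⁻¹ᵁ W) := by rw [← hr]; rfl
  refine a3.trans (Eq.symm ?_)
  refine (congrArg (fun z => P.presheaf.map (eqToHom e).op ((rhoMod G h').app ((g.resLE U U' h) ⁻¹ᵁ W) z)) a1).trans
    ((congrArg (P.presheaf.map (eqToHom e).op) (a2.trans (res_res G _ _ _))).trans ?_)
  exact map_map G (homOfLE ((rI_image_le h' _).trans (image_preimage_resLE g U U' h W))).op
    (U''.ι.opensFunctor.map (eqToHom e)).op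
    (homOfLE (image_preimage_resLE g U U'' (h'.trans h) W)).op (OmegaSh.pullSect g F (U.ι ''ᵁ W) s)

lemma pullOn_resLE (g : X ⟶ Y) (F : Y.Modules) {U V : Y.Opens} {U' : X.Opens} (hV : V ≤ U) (h : U' ≤ g ⁻¹ᵁ V)
    (p : ℕ) (x : Coh.HHon Y F U p) :
    CohPull.pullOn g V U' h F p (CohPull.resLE F hV p x) =
      CohPull.pullOn g U U' (h.trans (g.preimage_mono hV)) F p x := by
  rw [resLE_eq, pullOn_eq_PM, pullOn_eq_PM]
  let G := (Scheme.Modules.pullback g).obj F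
  have h₁ := h.trans (g.preimage_mono hV)
  have hr : g.resLE V U' h ≫ rI hV = g.resLE U U' h₁ := by
    rw [← cancel_mono U.ι, Category.assoc, rI_ι, Scheme.Hom.resLE_comp_ι, Scheme.Hom.resLE_comp_ι]
  refine PM_comp (g.resLE V U' h) (rI hV) (g.resLE U U' h₁) hr (xiMod g V U' h F) (rhoMod F hV)
    (xiMod g U U' h₁ F) (fun W s => ?_) p x
  have a1 := rhoMod_app F hV W s
  have a2 := xiMod_app g V U' h F ((rI hV) ⁻¹ᵁ W) (res F (rI_image_le hV W) s)
  have a3 := xiMod_app g U U' h₁ F W s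
  have a4 : OmegaSh.pullSect g F (V.ι ''ᵁ ((rI hV) ⁻¹ᵁ W)) (res F (rI_image_le hV W) s) =
      res G (g.preimage_mono (rI_image_le hV W)) (OmegaSh.pullSect g F (U.ι ''ᵁ W) s) :=
    OmegaSh.pullSect_map g F (rI_image_le hV W) s
  let P := G.restrict U'.ι
  let e : (g.resLE U U' h₁) ⁻¹ᵁ W = (g.resLE V U' h) ⁻¹ᵁ ((rI hV) ⁻¹ᵁ W) := by rw [← hr]; rfl
  refine a3.trans (Eq.symm ?_)
  refine (congrArg (fun z => P.presheaf.map (eqToHom e).op ((xiMod g V U' h F).app ((rI hV) ⁻¹ᵁ W) z)) a1).trans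
    ((congrArg (P.presheaf.map (eqToHom e).op) (a2.trans ((congrArg (res G _) a4).trans (res_res G _ _ _)))).trans ?_)
  exact map_map G (homOfLE ((image_preimage_resLE g V U' h _).trans (g.preimage_mono (rI_image_le hV W)))).op
    (U'.ι.opensFunctor.map (eqToHom e)).op
    (homOfLE (image_preimage_resLE g U U' h₁ W)).op (OmegaSh.pullSect g F (U.ι ''ᵁ W) s)

lemma xiMod_natural (g : X ⟶ Y) (U : Y.Opens) (U' : X.Opens) (h : U' ≤ g ⁻¹ᵁ U) {F G : Y.Modules} (ψ : F ⟶ G) :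
    (Scheme.Modules.restrictFunctor U.ι).map ψ ≫ xiMod g U U' h G =
      xiMod g U U' h F ≫ (Scheme.Modules.pushforward (g.resLE U U' h)).map
        ((Scheme.Modules.restrictFunctor U'.ι).map ((Scheme.Modules.pullback g).map ψ)) := by
  refine hom_ext_app _ _ fun W s => ?_
  let ψ' := (Scheme.Modules.pullback g).map ψ
  have e1 : ((Scheme.Modules.restrictFunctor U.ι).map ψ ≫ xiMod g U U' h G).app W s =
      (xiMod g U U' h G).app W (ψ.app (U.ι ''ᵁ W) s) := rfl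
  have e2 : (xiMod g U U' h F ≫ (Scheme.Modules.pushforward (g.resLE U U' h)).map
        ((Scheme.Modules.restrictFunctor U'.ι).map ψ')).app W s =
      ψ'.app (U'.ι ''ᵁ ((g.resLE U U' h) ⁻¹ᵁ W)) ((xiMod g U U' h F).app W s) := rfl
  refine e1.trans (Eq.trans ?_ e2.symm)
  have a1 := xiMod_app g U U' h G W (ψ.app (U.ι ''ᵁ W) s)
  have a2 := xiMod_app g U U' h F W s
  have a3 := app_res ψ' (image_preimage_resLE g U U' h W) (OmegaSh.pullSect g F (U.ι ''ᵁ W) s)
  have a4 : ψ'.app (g ⁻¹ᵁ (U.ι ''ᵁ W)) (OmegaSh.pullSect g F (U.ι ''ᵁ W) s) =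
      OmegaSh.pullSect g G (U.ι ''ᵁ W) (ψ.app (U.ι ''ᵁ W) s) := QC.app_pullSect g ψ _ s
  rw [a1, a2, ← a3, a4]

lemma pullOn_natural (g : X ⟶ Y) (U : Y.Opens) (U' : X.Opens) (h : U' ≤ g ⁻¹ᵁ U) {F G : Y.Modules} (ψ : F ⟶ G)
    (p : ℕ) (x : Coh.HHon Y F U p) :
    CohPull.pullOn g U U' h G p (CohPull.mapH ((Scheme.Modules.restrictFunctor U.ι).map ψ) p x) =
      CohPull.mapH ((Scheme.Modules.restrictFunctor U'.ι).map ((Scheme.Modules.pullback g).map ψ)) p
        (CohPull.pullOn g U U' h F p x) := by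
  rw [pullOn_eq_PM, pullOn_eq_PM, PM_pre, PM_post, xiMod_natural]

lemma rhoMod_natural {U U' : X.Opens} (h : U' ≤ U) {F G : X.Modules} (ψ : F ⟶ G) :
    (Scheme.Modules.restrictFunctor U.ι).map ψ ≫ rhoMod G h =
      rhoMod F h ≫ (Scheme.Modules.pushforward (rI h)).map ((Scheme.Modules.restrictFunctor U'.ι).map ψ) := by
  refine hom_ext_app _ _ fun W s => ?_
  have e1 : ((Scheme.Modules.restrictFunctor U.ι).map ψ ≫ rhoMod G h).app W s =
      (rhoMod G h).app W (ψ.app (U.ι ''ᵁ W) s) := rfl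
  have e2 : (rhoMod F h ≫ (Scheme.Modules.pushforward (rI h)).map
        ((Scheme.Modules.restrictFunctor U'.ι).map ψ)).app W s =
      ψ.app (U'.ι ''ᵁ ((rI h) ⁻¹ᵁ W)) ((rhoMod F h).app W s) := rfl
  refine e1.trans (Eq.trans ?_ e2.symm)
  rw [rhoMod_app, rhoMod_app, app_res]

lemma resLE_natural {U U' : X.Opens} (h : U' ≤ U) {F G : X.Modules} (ψ : F ⟶ G) (p : ℕ)
    (x : Coh.HHon X F U p) :
    CohPull.resLE G h p (CohPull.mapH ((Scheme.Modules.restrictFunctor U.ι).map ψ) p x) =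
      CohPull.mapH ((Scheme.Modules.restrictFunctor U'.ι).map ψ) p (CohPull.resLE F h p x) := by
  rw [resLE_eq, resLE_eq, PM_pre, PM_post, rhoMod_natural]

/-- Restriction commutes with connecting maps. -/
lemma resLE_extδ {U U' : X.Opens} (h : U' ≤ U) (S : ShortComplex X.Modules)
    (hU : (S.map (CohCmp.toAbOn X U)).ShortExact) (hU' : (S.map (CohCmp.toAbOn X U')).ShortExact)
    (p : ℕ) (x : Coh.HHon X S.X₃ U p) :
    CohPull.resLE S.X₁ h (p + 1) (CohCmp.extδ hU p x) = CohCmp.extδ hU' p (CohPull.resLE S.X₃ h p x) := by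
  rw [resLE_eq, resLE_eq]
  let T := SheafOfModules.toSheaf U.toScheme.ringCatSheaf
  refine PA_δ (rI h).base hU hU' (T.map (rhoMod S.X₁ h)) (T.map (rhoMod S.X₂ h)) (T.map (rhoMod S.X₃ h)) ?_ ?_ p x
  · exact (T.map_comp _ _).symm.trans ((congrArg T.map (rhoMod_natural h S.f)).trans (T.map_comp _ _))
  · exact (T.map_comp _ _).symm.trans ((congrArg T.map (rhoMod_natural h S.g)).trans (T.map_comp _ _))

lemma equiv₀_sectH0 (F : X.Modules) (U : X.Opens) (s : Γ(F, U)) :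
    Sheaf.H.equiv₀ (Coh.toAb (F.restrict U.ι)) isTerminalTop (CohPull.sectH0 F U s) =
      res F U.ι_image_top.le s :=
  AddEquiv.apply_symm_apply _ _

lemma resLE_sectH0 (F : X.Modules) {U U' : X.Opens} (h : U' ≤ U) (s : Γ(F, U)) :
    CohPull.resLE F h 0 (CohPull.sectH0 F U s) = CohPull.sectH0 F U' (res F h s) := by
  apply (Sheaf.H.equiv₀ (Coh.toAb (F.restrict U'.ι)) (isTerminalTop : IsTerminal (⊤ : U'.toScheme.Opens))).injective
  have a1 := PM_zero (rI h) (rhoMod F h) (CohPull.sectH0 F U s)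
  have a2 := equiv₀_sectH0 F U s
  have a3 := rhoMod_app F h ⊤ (res F U.ι_image_top.le s)
  rw [resLE_eq]
  refine a1.trans (((congrArg ((rhoMod F h).app ⊤) a2).trans a3).trans ?_)
  refine Eq.trans ?_ (equiv₀_sectH0 F U' (res F h s)).symm
  exact (map_map F _ _ _ s).trans (res_res F _ _ s).symm

lemma pullOn_sectH0 (g : X ⟶ Y) (U : Y.Opens) (U' : X.Opens) (h : U' ≤ g ⁻¹ᵁ U) (F : Y.Modules) (s : Γ(F, U)) :
    CohPull.pullOn g U U' h F 0 (CohPull.sectH0 F U s) =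
      CohPull.sectH0 ((Scheme.Modules.pullback g).obj F) U' (res _ h (OmegaSh.pullSect g F U s)) := by
  let G := (Scheme.Modules.pullback g).obj F
  apply (Sheaf.H.equiv₀ (Coh.toAb (G.restrict U'.ι)) (isTerminalTop : IsTerminal (⊤ : U'.toScheme.Opens))).injective
  have a1 := PM_zero (g.resLE U U' h) (xiMod g U U' h F) (CohPull.sectH0 F U s)
  have a2 := equiv₀_sectH0 F U s
  have a3 := xiMod_app g U U' h F ⊤ (res F U.ι_image_top.le s)
  have a4 : OmegaSh.pullSect g F (U.ι ''ᵁ ⊤) (res F U.ι_image_top.le s) =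
      res G (g.preimage_mono U.ι_image_top.le) (OmegaSh.pullSect g F U s) :=
    OmegaSh.pullSect_map g F U.ι_image_top.le s
  rw [pullOn_eq_PM]
  refine a1.trans (((congrArg ((xiMod g U U' h F).app ⊤) a2).trans (a3.trans (congrArg (res G _) a4))).trans ?_)
  refine Eq.trans ?_ (equiv₀_sectH0 G U' (res G h (OmegaSh.pullSect g F U s))).symm
  exact (map_map G _ _ _ _).trans (res_res G _ _ _).symm

/-- The proof of the inclusion is irrelevant. -/
lemma pullOn_congr (g : X ⟶ Y) (F : Y.Modules) (U : Y.Opens) (U' : X.Opens) (h h' : U' ≤ g ⁻¹ᵁ U) (p : ℕ)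
    (x : Coh.HHon Y F U p) : CohPull.pullOn g U U' h F p x = CohPull.pullOn g U U' h' F p x :=
  congrArg (fun r : Coh.HHon Y F U p →+ _ => r x) (rfl : CohPull.pullOn g U U' h F p = CohPull.pullOn g U U' h' F p)

/-- The proof of the inclusion is irrelevant. -/
lemma resLE_congr (F : X.Modules) {U U' : X.Opens} (h h' : U' ≤ U) (p : ℕ) (x : Coh.HHon X F U p) :
    CohPull.resLE F h p x = CohPull.resLE F h' p x :=
  congrArg (fun r : Coh.HHon X F U p →+ _ => r x) (rfl : CohPull.resLE F h p = CohPull.resLE F h' p)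

lemma resLE_pullOn' (g : X ⟶ Y) (F : Y.Modules) {U : Y.Opens} {U' U'' : X.Opens} (h : U' ≤ g ⁻¹ᵁ U)
    (h' : U'' ≤ U') (h'' : U'' ≤ g ⁻¹ᵁ U) (p : ℕ) (x : Coh.HHon Y F U p) :
    CohPull.resLE ((Scheme.Modules.pullback g).obj F) h' p (CohPull.pullOn g U U' h F p x) =
      CohPull.pullOn g U U'' h'' F p x :=
  (resLE_pullOn g F h h' p x).trans (pullOn_congr g F U U'' _ h'' p x)

lemma pullOn_resLE' (g : X ⟶ Y) (F : Y.Modules) {U V : Y.Opens} {U' : X.Opens} (hV : V ≤ U) (h : U' ≤ g ⁻¹ᵁ V)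
    (h'' : U' ≤ g ⁻¹ᵁ U) (p : ℕ) (x : Coh.HHon Y F U p) :
    CohPull.pullOn g V U' h F p (CohPull.resLE F hV p x) = CohPull.pullOn g U U' h'' F p x :=
  (pullOn_resLE g F hV h p x).trans (pullOn_congr g F U U' _ h'' p x)

end Groth.Agent.W7Gen
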