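import Groth.Agent.W7Gen.TSquare2
import Groth.Agent.W7Cech.Complex

/-!
Pullback of cohomology along an affine base change, read in a complex computing `H^p(X, F ⊗_A -)`.
-/

set_option autoImplicit false
set_option backward.isDefEq.respectTransparency false
set_option backward.isDefEq.respectTransparency.types false
set_option linter.style.haveILetI false

universe u

open CategoryTheory CategoryTheory.Limits AlgebraicGeometry TopologicalSpace Opposite
open Groth.Agent.W7Cech (CC exists_TEquiv)
open Groth.Agent.SiteCoh Groth.Agent.CohQC Groth.Agent.ProjCech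

noncomputable section

namespace Groth.Agent.W7Gen

variable (A : Type u) [CommRing A] {X : Scheme.{u}} [X.Over (Spec (CommRingCat.of A))]
  (B : Type u) [CommRing B] [Algebra A B] {X' : Scheme.{u}}
  [X'.Over (Spec (CommRingCat.of B))] (g : X' ⟶ X)
  (sq : IsPullback g (X' ↘ Spec (CommRingCat.of B)) (X ↘ Spec (CommRingCat.of A))
    (Spec.map (CommRingCat.ofHom (algebraMap A B))))
  {ι : Type u} [Finite ι] (U : ι → X.Opens)
  (hU : ∀ (n : ℕ) (a : Fin (n + 1) → ι), IsAffineOpen (tupleProd U a)) (hcov : iSup U = ⊤)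
  (F : X.Modules) {κ : Type} {c : ComplexShape κ} (L : HomologicalComplex (ModuleCat.{u} A) c) (j : κ)

include hU hcov sq in
/-- The pullback on cohomology is `T(A → B)`. -/
theorem exists_model_sq (hF : Coh.IsQCoh F) (p : ℕ)
    (τ : CohIII.TFun L j ≅ CohIII.TFun ((CC A U).obj F) p) :
    ∃ (e : Coh.HH X F p ≃ₗ[A] (CohIII.T L j (ModuleCat.of A A) : Type u))
      (e' : Coh.HH X' ((Scheme.Modules.pullback g).obj F) p ≃+ (CohIII.T L j (ModuleCat.of A B) : Type u)),
      (∀ (b : B) z, e' (b • z) = ((CohIII.TFun L j).map (muB A B b)).hom (e' z)) ∧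
      ∀ x, e' (CohPull.pullMod g F p x) = ((CohIII.TFun L j).map (iotaB A B)).hom (e x) := by
  obtain ⟨t, ht⟩ := exists_TEquiv A U hU hcov F hF p
  haveI := isIso_dMap A (X := X) F hF
  let h₀ := CohFinite.hhEquiv A (asIso (dMap A F)) p
  let σ : ∀ M : ModuleCat.{u} A, (CohIII.T L j M : Type u) ≃ₗ[A]
      Coh.HH X ((CohIII.tensorAFunctor A F).obj M) p := fun M => (τ.app M).toLinearEquiv ≪≫ₗ t M
  have hσ : ∀ {M N : ModuleCat.{u} A} (φ : M ⟶ N) (z : (CohIII.T L j M : Type u)),
      σ N (((CohIII.TFun L j).map φ).hom z) =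
        CohPull.mapH ((CohIII.tensorAFunctor A F).map φ) p (σ M z) := fun {M N} φ z => by
    have h1 : (τ.app N).toLinearEquiv (((CohIII.TFun L j).map φ).hom z) =
        ((CohIII.TFun ((CC A U).obj F) p).map φ).hom ((τ.app M).toLinearEquiv z) :=
      LinearMap.congr_fun (congrArg ModuleCat.Hom.hom (τ.hom.naturality φ)) z
    exact (congrArg (t N) h1).trans (ht M N φ _)
  let E := AddEquiv.ofBijective (eMap A B g sq F p) (eMap_bijective A B g sq F hF p)
  let e := h₀.symm ≪≫ₗ (σ (ModuleCat.of A A)).symm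
  let e' := E.symm.trans (σ (ModuleCat.of A B)).symm.toAddEquiv
  refine ⟨e, e', fun b z => ?_, fun x => ?_⟩
  · apply e'.symm.injective
    obtain ⟨w, rfl⟩ := e'.symm.surjective z
    rw [AddEquiv.apply_symm_apply, AddEquiv.symm_apply_apply]
    change b • eMap A B g sq F p (σ _ w) = eMap A B g sq F p (σ _ (((CohIII.TFun L j).map (muB A B b)).hom w))
    rw [hσ, eMap_muB]
  · apply e'.symm.injective
    obtain ⟨w, rfl⟩ := e.symm.surjective x
    rw [AddEquiv.symm_apply_apply, LinearEquiv.apply_symm_apply]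
    change CohPull.pullMod g F p (CohPull.mapH (dMap A F) p (σ _ w)) =
      eMap A B g sq F p (σ _ (((CohIII.TFun L j).map (iotaB A B)).hom w))
    rw [hσ, eMap_iota]

end Groth.Agent.W7Gen
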