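import Groth.Agent.W7Gen.Bc

/-!
Pulled back classes spanning, without base change data.
-/

set_option autoImplicit false
set_option backward.isDefEq.respectTransparency false
set_option linter.style.haveILetI false

universe u

open CategoryTheory CategoryTheory.Limits AlgebraicGeometry TopologicalSpace Opposite
open Groth.Agent.W7Cech (CC)
open Groth.Agent.SiteCoh Groth.Agent.ProjCech
open Groth.Agent.FlatCx (comparison comparison_natural HmEquivT)

noncomputable section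

namespace Groth.Agent.W7Gen

variable {X S X' S' : Scheme.{u}} {f : X ⟶ S} {g : S' ⟶ S} {f' : X' ⟶ S'} {g' : X' ⟶ X}

/-- The classes pulled back from `f⁻¹ V` span the cohomology of `f'⁻¹ V'`. -/
def Spans (w : g' ≫ f = f' ≫ g) (F : X.Modules) (p : ℕ) (V : S.Opens) {V' : S'.Opens} (hV' : IsAffineOpen V')
    (hle : V' ≤ g ⁻¹ᵁ V) : Prop :=
  let U' : X'.Opens := f' ⁻¹ᵁ V'
  letI : U'.toScheme.Over (Spec (CommRingCat.of Γ(S', V'))) := ⟨(f' ∣_ V') ≫ hV'.isoSpec.hom⟩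
  letI : Module Γ(S', V') (Coh.HH U'.toScheme (((Scheme.Modules.pullback g').obj F).restrict U'.ι) p) :=
    Coh.moduleOver Γ(S', V') _ _ p
  Submodule.span Γ(S', V')
    (Set.range (CohPull.pullOn g' (f ⁻¹ᵁ V) U' (pre_le w hle) F p)) = ⊤

lemma Spans.mono {w : g' ≫ f = f' ≫ g} {F : X.Modules} {p : ℕ} {V₁ V : S.Opens} {V' : S'.Opens}
    {hV' : IsAffineOpen V'} (h : V ≤ V₁) {hle₁ : V' ≤ g ⁻¹ᵁ V₁} (hle : V' ≤ g ⁻¹ᵁ V)
    (hs : Spans w F p V₁ hV' hle₁) : Spans w F p V hV' hle := by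
  letI : (f' ⁻¹ᵁ V').toScheme.Over (Spec (CommRingCat.of Γ(S', V'))) := ⟨(f' ∣_ V') ≫ hV'.isoSpec.hom⟩
  letI : Module Γ(S', V') (Coh.HHon X' ((Scheme.Modules.pullback g').obj F) (f' ⁻¹ᵁ V') p) :=
    Coh.moduleOver Γ(S', V') (f' ⁻¹ᵁ V').toScheme (((Scheme.Modules.pullback g').obj F).restrict (f' ⁻¹ᵁ V').ι) p
  unfold Spans at hs ⊢
  refine top_unique (hs.symm.le.trans (Submodule.span_mono ?_))
  rintro _ ⟨x, rfl⟩
  exact ⟨CohPull.resLE (U := f ⁻¹ᵁ V₁) (U' := f ⁻¹ᵁ V) F (f.preimage_mono h) p x,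
    pullOn_resLE' (U := f ⁻¹ᵁ V₁) (V := f ⁻¹ᵁ V) (U' := f' ⁻¹ᵁ V') g' F (f.preimage_mono h) (pre_le w hle) (pre_le w hle₁) p x⟩

theorem spans_iff (h : IsPullback g' f' f g) (F : X.Modules) (hF : Coh.IsQCoh F) (p : ℕ)
    {V : S.Opens} (hV : IsAffineOpen V) {V' : S'.Opens} (hV' : IsAffineOpen V') (hle : V' ≤ g ⁻¹ᵁ V)
    {ι : Type u} [Finite ι] (W : ι → (f ⁻¹ᵁ V).toScheme.Opens)
    (hW : ∀ (n : ℕ) (a : Fin (n + 1) → ι), IsAffineOpen (tupleProd W a)) (hcov : iSup W = ⊤)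
    {κ : Type} {c : ComplexShape κ} (L : HomologicalComplex (ModuleCat.{u} Γ(S, V)) c) (j : κ)
    (hL : ∀ i, Module.Flat Γ(S, V) (L.X i))
    (τ : letI : (f ⁻¹ᵁ V).toScheme.Over (Spec (CommRingCat.of Γ(S, V))) := ⟨(f ∣_ V) ≫ hV.isoSpec.hom⟩
      CohIII.TFun L j ≅ CohIII.TFun ((CC Γ(S, V) W).obj (F.restrict (f ⁻¹ᵁ V).ι)) p) :
    letI := (g.appLE V V' hle).hom.toAlgebra
    Spans h.w F p V hV' hle ↔
      Function.Surjective (comparison L j (ModuleCat.of Γ(S, V) Γ(S', V'))) := by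
  let U := f ⁻¹ᵁ V
  let U' := f' ⁻¹ᵁ V'
  let r := g'.resLE U U' (pre_le h.w hle)
  letI := (g.appLE V V' hle).hom.toAlgebra
  letI : U.toScheme.Over (Spec (CommRingCat.of Γ(S, V))) := ⟨(f ∣_ V) ≫ hV.isoSpec.hom⟩
  letI : U'.toScheme.Over (Spec (CommRingCat.of Γ(S', V'))) := ⟨(f' ∣_ V') ≫ hV'.isoSpec.hom⟩
  have sq : IsPullback r (U'.toScheme ↘ Spec (CommRingCat.of Γ(S', V'))) (U.toScheme ↘ Spec (CommRingCat.of Γ(S, V)))
      (Spec.map (CommRingCat.ofHom (algebraMap Γ(S, V) Γ(S', V')))) := isPullback_pair h hV hV' hle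
  let A := Γ(S, V)
  let B := Γ(S', V')
  let F₀ := F.restrict U.ι
  obtain ⟨e, e', hb, hk⟩ := exists_model_sq Γ(S, V) Γ(S', V') r sq W hW hcov F₀ L j
    (Groth.Agent.QC.isQCoh_restrict _ hF) p τ
  let iG := CohFinite.hhEquiv Γ(S', V') (CohPull.pullOnIso g' U U' (pre_le h.w hle) F) p
  let Φ := iG.symm.toAddEquiv.trans e'
  have hΦ : ∀ (b : B) z, Φ (b • z) = ((CohIII.TFun L j).map (muB A B b)).hom (Φ z) := fun b z =>
    (congrArg e' (iG.symm.map_smul b z)).trans (hb b _)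
  have hΦp : ∀ x, Φ (CohPull.pullOn g' U U' (pre_le h.w hle) F p x) =
      comparison L j (ModuleCat.of A B) ((HmEquivT L hL j).symm (e x) ⊗ₜ (1 : B)) := fun x => by
    refine (congrArg e' (iG.symm_apply_apply (CohPull.pullMod r F₀ p x))).trans ((hk x).trans ?_)
    conv_lhs => rw [← (HmEquivT L hL j).apply_symm_apply (e x)]
    refine (comparison_natural L j (iotaB A B) (((HmEquivT L hL j).symm (e x)) ⊗ₜ[A] (1 : A))).symm.trans ?_
    refine congrArg (comparison L j (ModuleCat.of A B)) ?_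
    change ((HmEquivT L hL j).symm (e x)) ⊗ₜ[A] (algebraMap A B 1) = _
    rw [map_one]
  unfold Spans
  constructor
  · intro hs y
    obtain ⟨z, rfl⟩ := Φ.surjective y
    have hz : z ∈ Submodule.span B (Set.range (CohPull.pullOn g' U U' (pre_le h.w hle) F p)) := hs ▸ trivial
    induction hz using Submodule.span_induction with
    | mem z hz => obtain ⟨x, rfl⟩ := hz; exact ⟨_, (hΦp x).symm⟩
    | zero => exact ⟨0, by rw [map_zero, map_zero]⟩
    | add a b _ _ ha hb' =>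
      obtain ⟨u, hu⟩ := ha
      obtain ⟨v, hv⟩ := hb'
      exact ⟨u + v, by rw [map_add, map_add, hu, hv]⟩
    | smul b a _ ha =>
      obtain ⟨u, hu⟩ := ha
      exact ⟨(muB A B b).hom.lTensor _ u, by rw [comparison_natural, hu, hΦ]⟩
  · intro hs
    refine eq_top_iff.2 fun z _ => ?_
    obtain ⟨w, hw⟩ := hs (Φ z)
    obtain rfl : z = Φ.symm (comparison L j (ModuleCat.of A B) w) := by rw [hw, AddEquiv.symm_apply_apply]
    clear hw
    induction w using TensorProduct.induction_on with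
    | zero => rw [map_zero, map_zero]; exact Submodule.zero_mem _
    | tmul m b =>
      obtain ⟨x, rfl⟩ : ∃ x, m = (HmEquivT L hL j).symm (e x) :=
        ⟨e.symm (HmEquivT L hL j m), by rw [LinearEquiv.apply_symm_apply, LinearEquiv.symm_apply_apply]⟩
      have heq : Φ.symm (comparison L j (ModuleCat.of A B) ((HmEquivT L hL j).symm (e x) ⊗ₜ[A] b)) =
          b • CohPull.pullOn g' U U' (pre_le h.w hle) F p x := by
        rw [AddEquiv.symm_apply_eq, hΦ, hΦp]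
        refine Eq.trans ?_ (comparison_natural L j (muB A B b) _)
        refine congrArg (comparison L j (ModuleCat.of A B)) ?_
        change (HmEquivT L hL j).symm (e x) ⊗ₜ[A] b = (HmEquivT L hL j).symm (e x) ⊗ₜ[A] (b * 1)
        rw [mul_one]
      rw [heq]
      exact Submodule.smul_mem _ b (Submodule.subset_span ⟨x, rfl⟩)
    | add a b ha hb' => rw [map_add, map_add]; exact Submodule.add_mem _ (ha trivial) (hb' trivial)

end Groth.Agent.W7Gen
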