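import Groth.Agent.W7Gen.Bc
import Groth.Agent.W7Gen.Spans
import Groth.Agent.W7Cech.NNGrauert

/-!
Cohomology and base change at a point, and over an open of the base.
-/

set_option autoImplicit false
set_option backward.isDefEq.respectTransparency false
set_option linter.style.haveILetI false
set_option maxHeartbeats 800000

universe u

open CategoryTheory CategoryTheory.Limits AlgebraicGeometry TopologicalSpace Opposite
open Groth.Agent.W7Cech (CC ModelNN nonempty_ModelNN flatX finitePresentationX)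
open Groth.Agent.SiteCoh Groth.Agent.ProjCech
open Groth.Agent.FlatCx (Opc Hm comparison)

noncomputable section

namespace Groth.Agent.W7Gen

variable {X S : Scheme.{u}} (f : X ⟶ S) [IsProper f] [LocallyOfFinitePresentation f]
  [HasInjectiveResolutions X.Modules] {F : X.Modules}

/-- A finite affine cover of the preimage of an affine open, and the comparison with the model. -/
theorem exists_tau {V : S.Opens} (hV : IsAffineOpen V) (m : ModelNN f F hV) (p : ℕ) :
    letI : (f ⁻¹ᵁ V).toScheme.Over (Spec (CommRingCat.of Γ(S, V))) := ⟨(f ∣_ V) ≫ hV.isoSpec.hom⟩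
    ∃ (ι : Type u) (_ : Finite ι) (W : ι → (f ⁻¹ᵁ V).toScheme.Opens),
      (∀ (n : ℕ) (a : Fin (n + 1) → ι), IsAffineOpen (tupleProd W a)) ∧ iSup W = ⊤ ∧
      Nonempty (CohIII.TFun m.L (p : ℤ) ≅
        CohIII.TFun ((CC Γ(S, V) W).obj (F.restrict (f ⁻¹ᵁ V).ι)) p) := by
  let U := f ⁻¹ᵁ V
  letI : U.toScheme.Over (Spec (CommRingCat.of Γ(S, V))) := ⟨(f ∣_ V) ≫ hV.isoSpec.hom⟩
  haveI : IsProper (f ∣_ V) := IsZariskiLocalAtTarget.restrict (P := @IsProper) ‹_› V
  haveI : IsProper (U.toScheme ↘ Spec (CommRingCat.of Γ(S, V))) :=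
    inferInstanceAs (IsProper ((f ∣_ V) ≫ hV.isoSpec.hom))
  haveI : CompactSpace U.toScheme :=
    QuasiCompact.compactSpace_of_compactSpace (U.toScheme ↘ Spec (CommRingCat.of Γ(S, V)))
  haveI : U.toScheme.IsSeparated := by
    constructor
    rw [← terminal.comp_from (U.toScheme ↘ Spec (CommRingCat.of Γ(S, V)))]
    infer_instance
  obtain ⟨ι, hι, W, hW, hcov⟩ := W7Cech.exists_cover U.toScheme
  haveI := hι
  exact ⟨ι, hι, W, hW, hcov, m.hT ι W hW hcov p⟩

omit [IsProper f] [LocallyOfFinitePresentation f] in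
/-- The next opcycles of a model are finitely presented. -/
lemma finitePresentation_opc {V : S.Opens} {hV : IsAffineOpen V} (m : ModelNN f F hV) (p : ℤ) :
    Module.FinitePresentation Γ(S, V) (Opc m.L p ((ComplexShape.up ℤ).next p)) :=
  haveI := finitePresentationX m.L m.hL
  Module.finitePresentation_of_surjective (LinearMap.range (m.L.d p _).hom).mkQ (Submodule.mkQ_surjective _) (by
    haveI := (m.hL p).1
    rw [Submodule.ker_mkQ, LinearMap.range_eq_map]
    exact Module.Finite.fg_top.map _)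

lemma fiber_le {s : S} {V : S.Opens} (hs : s ∈ V) :
    (⊤ : (Spec (S.residueField s)).Opens) ≤ S.fromSpecResidueField s ⁻¹ᵁ V := fun z _ => by
  change S.fromSpecResidueField s z ∈ V
  rw [Scheme.fromSpecResidueField_apply]
  exact hs

omit [IsProper f] [LocallyOfFinitePresentation f] in
/-- Surjectivity of the comparison at the residue field of a point, read on the fibre. -/
theorem comparison_fibre_iff {V : S.Opens} (hV : IsAffineOpen V) (m : ModelNN f F hV) (p : ℤ)
    {s : S} (hs : s ∈ V) :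
    letI := ((S.fromSpecResidueField s).appLE V ⊤ (fiber_le hs)).hom.toAlgebra
    Function.Surjective (comparison m.L p (ModuleCat.of Γ(S, V) Γ(Spec (S.residueField s), ⊤))) ↔
      hV.primeIdealOf ⟨s, hs⟩ ∈ Module.freeLocus Γ(S, V) (Opc m.L p ((ComplexShape.up ℤ).next p)) := by
  let K := S.residueField s
  let φ := (S.fromSpecResidueField s).appLE V ⊤ (fiber_le hs)
  let i := Scheme.ΓSpecIso K
  letI algB : Algebra Γ(S, V) Γ(Spec K, ⊤) := φ.hom.toAlgebra
  letI : Algebra Γ(S, V) K := (S.evaluation V s hs).hom.toAlgebra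
  have hφ : φ ≫ i.hom = S.evaluation V s hs := by
    apply Spec.map_injective
    rw [← cancel_mono hV.fromSpec, Spec.map_comp, Category.assoc, W7Cech.SpecMap_evaluation_fromSpec hV s hs,
      IsAffineOpen.SpecMap_appLE_fromSpec (S.fromSpecResidueField s) hV (isAffineOpen_top _) (fiber_le hs),
      IsAffineOpen.fromSpec_top, Scheme.isoSpec_Spec_inv, ← Spec.map_comp_assoc]
    simp [i]
    rfl
  obtain ⟨σ, hσ⟩ := W7Cech.exists_residueField_equiv (k := K) (W7Cech.evaluation_frac hV s hs)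
    (W7Cech.specPt s hs) rfl
  let ρ : Γ(Spec K, ⊤) ≃+* (W7Cech.specPt s hs).asIdeal.ResidueField := i.commRingCatIsoToRingEquiv.trans σ
  have hρ : ∀ a, ρ (algebraMap Γ(S, V) Γ(Spec K, ⊤) a) =
      algebraMap Γ(S, V) (W7Cech.specPt s hs).asIdeal.ResidueField a := fun a => by
    refine Eq.trans ?_ (hσ a)
    exact congrArg σ (ConcreteCategory.congr_hom hφ a)
  let ρA : (ModuleCat.of Γ(S, V) Γ(Spec K, ⊤)) ≅
      ModuleCat.of Γ(S, V) (W7Cech.specPt s hs).asIdeal.ResidueField :=
    (ρ.toAddEquiv.toLinearEquiv fun a b => by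
      change ρ (a • b) = a • ρ b
      rw [Algebra.smul_def, map_mul, hρ, ← Algebra.smul_def]).toModuleIso
  rw [comparison_surjective_congr m.L p ρA, ← W7Cech.specPt_eq hV s hs]
  exact comparison_surjective_residue_iff m.L p (fun i => ⟨(m.hL i).1, flatX m.L m.hL i⟩) (W7Cech.up_prev_next p) _

variable {Δ : RDer.DerivedLES (Scheme.Modules.pushforward f)} {E : CohCmp.SectCmp f Δ}

/-- At a point, the base change map is an epimorphism iff the next opcycles are free there. -/
theorem epi_bc_fibre_iff (hq : Coh.IsQCoh F) (s : S) [HasInjectiveResolutions (f.fiber s).Modules]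
    {Δs : RDer.DerivedLES (Scheme.Modules.pushforward (f.fiberToSpecResidueField s))}
    {Es : CohCmp.SectCmp (f.fiberToSpecResidueField s) Δs}
    (B : CohCmp.GenBC f (S.fromSpecResidueField s) (f.fiberToSpecResidueField s) (f.fiberι s) (f.fiber_fac s) E Es)
    (p : ℕ) {V : S.Opens} (hV : IsAffineOpen V) (hs : s ∈ V) (m : ModelNN f F hV) :
    Epi (B.bc p F) ↔
      hV.primeIdealOf ⟨s, hs⟩ ∈ Module.freeLocus Γ(S, V) (Opc m.L (p : ℤ) ((ComplexShape.up ℤ).next (p : ℤ))) := by
  have h : IsPullback (f.fiberι s) (f.fiberToSpecResidueField s) f (S.fromSpecResidueField s) :=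
    IsPullback.of_hasPullback f (S.fromSpecResidueField s)
  haveI : IsProper (f.fiberToSpecResidueField s) := MorphismProperty.of_isPullback (P := @IsProper) h inferInstance
  obtain ⟨ι, hι, W, hW, hcov, ⟨τ⟩⟩ := exists_tau f hV m p
  haveI := hι
  have key := (semiBij_semiSurj_iff h B F hq p hV (isAffineOpen_top _) (fiber_le hs) W hW hcov m.L (p : ℤ)
    (flatX m.L m.hL) τ).1
  rw [← comparison_fibre_iff f hV m (p : ℤ) hs, ← key]
  have hR : Coh.IsQCoh ((Coh.Rpush f p).obj F) := RPushQC.isQCoh_rpush f F hq p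
  constructor
  · intro he
    haveI : Epi (((Scheme.Modules.pullbackPushforwardAdjunction (S.fromSpecResidueField s)).homEquiv _ _).symm
        (B.φ p F)) := he
    exact semiSurj_of_epi (B.φ p F) hR (RPushQC.isQCoh_rpush _ _ (QC.isQCoh_pullback _ hq) p) hV
      (isAffineOpen_top _) (fiber_le hs)
  · exact epi_symm_of_semiSurj (B.φ p F) (fiber_le hs)

/-- Freeness at a point descends to smaller affine opens. -/
theorem mem_freeLocus_mono (hq : Coh.IsQCoh F) (p : ℕ) {V V' : S.Opens} (hV : IsAffineOpen V)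
    (hV' : IsAffineOpen V') (h : V' ≤ V) (m : ModelNN f F hV) (m' : ModelNN f F hV') {z : S} (hz : z ∈ V')
    (hfree : hV.primeIdealOf ⟨z, h hz⟩ ∈ Module.freeLocus Γ(S, V) (Opc m.L (p : ℤ) ((ComplexShape.up ℤ).next (p : ℤ)))) :
    hV'.primeIdealOf ⟨z, hz⟩ ∈ Module.freeLocus Γ(S, V') (Opc m'.L (p : ℤ) ((ComplexShape.up ℤ).next (p : ℤ))) := by
  have sq : IsPullback (f.fiberι z) (f.fiberToSpecResidueField z) f (S.fromSpecResidueField z) :=
    IsPullback.of_hasPullback f (S.fromSpecResidueField z)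
  obtain ⟨ι, hι, W, hW, hcov, ⟨τ⟩⟩ := exists_tau f hV m p
  obtain ⟨ι', hι', W', hW', hcov', ⟨τ'⟩⟩ := exists_tau f hV' m' p
  haveI := hι
  haveI := hι'
  have h1 := spans_iff sq F hq p hV (isAffineOpen_top _) (fiber_le (h hz)) W hW hcov m.L (p : ℤ)
    (flatX m.L m.hL) τ
  have h2 := spans_iff sq F hq p hV' (isAffineOpen_top _) (fiber_le hz) W' hW' hcov' m'.L (p : ℤ)
    (flatX m'.L m'.hL) τ'
  rw [← comparison_fibre_iff f hV' m' (p : ℤ) hz, ← h2]
  rw [← comparison_fibre_iff f hV m (p : ℤ) (h hz), ← h1] at hfree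
  exact hfree.mono h _

variable (F) in
/-- The next opcycles of every model on an affine open inside `U` are flat. -/
def Good (p : ℕ) (U : S.Opens) : Prop :=
  ∀ (V : S.Opens) (hV : IsAffineOpen V), V ≤ U → ∀ m : ModelNN f F hV,
    Module.Flat Γ(S, V) (Opc m.L (p : ℤ) ((ComplexShape.up ℤ).next (p : ℤ)))

omit [IsProper f] [LocallyOfFinitePresentation f] in
lemma Good.mono {p : ℕ} {U U' : S.Opens} (h : U' ≤ U) (hg : Good f F p U) : Good f F p U' :=
  fun V hV hle m => hg V hV (hle.trans h) m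

omit [IsProper f] [LocallyOfFinitePresentation f] in
/-- Free at every point of an affine open: flat. -/
theorem flat_of_free {V : S.Opens} (hV : IsAffineOpen V) (m : ModelNN f F hV) (p : ℤ)
    (h : ∀ z : S, ∀ hz : z ∈ V, hV.primeIdealOf ⟨z, hz⟩ ∈
      Module.freeLocus Γ(S, V) (Opc m.L p ((ComplexShape.up ℤ).next p))) :
    Module.Flat Γ(S, V) (Opc m.L p ((ComplexShape.up ℤ).next p)) := by
  haveI := finitePresentationX m.L m.hL
  refine flat_opc_of_surjective_residue m.L p (fun i => ⟨(m.hL i).1, flatX m.L m.hL i⟩) (W7Cech.up_prev_next p) fun x => ?_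
  refine (comparison_surjective_residue_iff m.L p (fun i => ⟨(m.hL i).1, flatX m.L m.hL i⟩) (W7Cech.up_prev_next p) x).2 ?_
  have h' := h (hV.fromSpec x) (W7Cech.fromSpec_mem hV x)
  rwa [← W7Cech.specPt_eq hV (hV.fromSpec x) (W7Cech.fromSpec_mem hV x), W7Cech.specPt_fromSpec hV x] at h'

/-- Epimorphisms at all points of `U`: good on `U`. -/
theorem good_of_forall_epi (hq : Coh.IsQCoh F) (p : ℕ) (U : S.Opens) [∀ s : S, HasInjectiveResolutions (f.fiber s).Modules]
    {Δs : ∀ s : S, RDer.DerivedLES (Scheme.Modules.pushforward (f.fiberToSpecResidueField s))}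
    {Es : ∀ s : S, CohCmp.SectCmp (f.fiberToSpecResidueField s) (Δs s)}
    (Bs : ∀ s : S, CohCmp.GenBC f (S.fromSpecResidueField s) (f.fiberToSpecResidueField s) (f.fiberι s)
      (f.fiber_fac s) E (Es s))
    (h : ∀ s ∈ U, Epi ((Bs s).bc p F)) : Good f F p U := fun _ hV hle m =>
  flat_of_free f hV m _ fun z hz => (epi_bc_fibre_iff f hq z (Bs z) p hV hz m).1 (h z (hle hz))

omit [IsProper f] [LocallyOfFinitePresentation f] in
/-- Flatness of the next opcycles gives freeness at every point. -/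
theorem free_of_flat {V : S.Opens} (hV : IsAffineOpen V) (m : ModelNN f F hV) (p : ℤ)
    (h : Module.Flat Γ(S, V) (Opc m.L p ((ComplexShape.up ℤ).next p))) (x : PrimeSpectrum Γ(S, V)) :
    x ∈ Module.freeLocus Γ(S, V) (Opc m.L p ((ComplexShape.up ℤ).next p)) := by
  haveI := finitePresentation_opc f m p
  haveI := h
  exact Module.freeLocus_eq_univ.symm.subset trivial

/-- Good around a point: epimorphism there. -/
theorem epi_bc_of_good (hq : Coh.IsQCoh F) (hF : CohB1.IsFP F) (hfl : FlatMod.IsFlatOver f F) {p : ℕ}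
    {U : S.Opens} (hg : Good f F p U) {s : S} (hs : s ∈ U) [HasInjectiveResolutions (f.fiber s).Modules]
    {Δs : RDer.DerivedLES (Scheme.Modules.pushforward (f.fiberToSpecResidueField s))}
    {Es : CohCmp.SectCmp (f.fiberToSpecResidueField s) Δs}
    (B : CohCmp.GenBC f (S.fromSpecResidueField s) (f.fiberToSpecResidueField s) (f.fiberι s) (f.fiber_fac s) E Es) :
    Epi (B.bc p F) := by
  obtain ⟨V, hV, hsV, hVU⟩ := exists_isAffineOpen_mem_and_subset (X := S) (x := s) (U := U) hs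
  obtain ⟨m⟩ := nonempty_ModelNN f hq hF hfl hV
  exact (epi_bc_fibre_iff f hq s B p hV hsV m).2 (free_of_flat f hV m _ (hg V hV hVU m) _)

/-- An epimorphism at a point spreads. -/
theorem exists_good_of_epi (hq : Coh.IsQCoh F) (hF : CohB1.IsFP F) (hfl : FlatMod.IsFlatOver f F) {p : ℕ}
    {s : S} [HasInjectiveResolutions (f.fiber s).Modules]
    {Δs : RDer.DerivedLES (Scheme.Modules.pushforward (f.fiberToSpecResidueField s))}
    {Es : CohCmp.SectCmp (f.fiberToSpecResidueField s) Δs}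
    (B : CohCmp.GenBC f (S.fromSpecResidueField s) (f.fiberToSpecResidueField s) (f.fiberι s) (f.fiber_fac s) E Es)
    (he : Epi (B.bc p F)) : ∃ U : S.Opens, s ∈ U ∧ Good f F p U := by
  obtain ⟨V, hV, hsV, -⟩ := exists_isAffineOpen_mem_and_subset (X := S) (x := s) (U := ⊤) trivial
  obtain ⟨m⟩ := nonempty_ModelNN f hq hF hfl hV
  haveI := finitePresentation_opc f m (p : ℤ)
  let Z := Module.freeLocus Γ(S, V) (Opc m.L (p : ℤ) ((ComplexShape.up ℤ).next (p : ℤ)))
  let U : S.Opens := ⟨hV.fromSpec '' Z, hV.fromSpec.isOpenEmbedding.isOpenMap Z Module.isOpen_freeLocus⟩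
  refine ⟨U, ⟨hV.primeIdealOf ⟨s, hsV⟩, (epi_bc_fibre_iff f hq s B p hV hsV m).1 he,
    hV.fromSpec_primeIdealOf ⟨s, hsV⟩⟩, fun V' hV' hle m' => ?_⟩
  have hV'V : V' ≤ V := by
    intro z hz
    obtain ⟨x, -, rfl⟩ := hle hz
    exact W7Cech.fromSpec_mem hV x
  refine flat_of_free f hV' m' _ fun z hz => mem_freeLocus_mono f hq p hV hV' hV'V m m' hz ?_
  obtain ⟨x, hx, rfl⟩ := hle hz
  rw [show hV.primeIdealOf ⟨hV.fromSpec x, hV'V hz⟩ = x from
    hV.fromSpec.isOpenEmbedding.injective (hV.fromSpec_primeIdealOf ⟨hV.fromSpec x, hV'V hz⟩)]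
  exact hx

/-- Over a good open the base change maps are isomorphisms. -/
theorem isIso_bc_of_good (hq : Coh.IsQCoh F) (hF : CohB1.IsFP F) (hfl : FlatMod.IsFlatOver f F) {p : ℕ}
    {U : S.Opens} (hg : Good f F p U) {X' S' : Scheme.{u}} {g' : X' ⟶ X} {f' : X' ⟶ S'} {g : S' ⟶ S}
    (h : IsPullback g' f' f g) [HasInjectiveResolutions X'.Modules]
    {Δ' : RDer.DerivedLES (Scheme.Modules.pushforward f')} {E' : CohCmp.SectCmp f' Δ'}
    (B : CohCmp.GenBC f g f' g' h.w E E') (hU : ∀ z : S', g z ∈ U) : IsIso (B.bc p F) := by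
  haveI : IsProper f' := MorphismProperty.of_isPullback (P := @IsProper) h inferInstance
  refine isIso_symm_of_semiBij (B.φ p F) (RPushQC.isQCoh_rpush f F hq p)
    (RPushQC.isQCoh_rpush _ _ (QC.isQCoh_pullback _ hq) p) fun z => ?_
  obtain ⟨V, hV, hgz, hVU⟩ := exists_isAffineOpen_mem_and_subset (X := S) (x := g z) (U := U) (hU z)
  obtain ⟨V', hV', hz, hle⟩ := exists_isAffineOpen_mem_and_subset (X := S') (x := z) (U := g ⁻¹ᵁ V) hgz
  obtain ⟨m⟩ := nonempty_ModelNN f hq hF hfl hV
  obtain ⟨ι, hι, W, hW, hcov, ⟨τ⟩⟩ := exists_tau f hV m p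
  haveI := hι
  letI := (g.appLE V V' hle).hom.toAlgebra
  exact ⟨V, hV, V', hV', hle, hz, (semiBij_semiSurj_iff h B F hq p hV hV' hle W hW hcov m.L (p : ℤ)
    (flatX m.L m.hL) τ).2 (FlatCx.comparison_bijective m.L (p : ℤ) (flatX m.L m.hL) (hg V hV hVU m) _)⟩

end Groth.Agent.W7Gen
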