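import Groth.Agent.W7Hull.Edge

/-!
Pullback of cohomology classes of abelian sheaves with coefficients in a map `M ⟶ f_* N`.
-/

set_option autoImplicit false
set_option backward.isDefEq.respectTransparency false
set_option linter.style.haveILetI false

universe u

open CategoryTheory CategoryTheory.Limits TopologicalSpace Opposite Abelian

noncomputable section

namespace Groth.Agent.W7Gen

open Groth.Agent.SiteCoh

variable {X Y Z : TopCat.{u}}

/-- `H^p(Y, M) → H^p(X, N)` along `f` and `φ : M ⟶ f_* N`. -/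
def PA (f : X ⟶ Y) {M : CohTop.Ab Y} {N : CohTop.Ab X} (φ : M ⟶ (CohTop.push f).obj N) (p : ℕ) :
    Sheaf.H M p →+ Sheaf.H N p :=
  (Sheaf.H.map (((CohPull.invPushAdj f).homEquiv _ _).symm φ) p).comp (CohPull.pullAb f M p)

lemma PA_apply (f : X ⟶ Y) {M : CohTop.Ab Y} {N : CohTop.Ab X} (φ : M ⟶ (CohTop.push f).obj N) (p : ℕ)
    (x : Sheaf.H M p) :
    PA f φ p x = Sheaf.H.map (((CohPull.invPushAdj f).homEquiv _ _).symm φ) p (CohPull.pullAb f M p x) := rfl

lemma PA_pre (f : X ⟶ Y) {M M' : CohTop.Ab Y} {N : CohTop.Ab X} (a : M' ⟶ M)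
    (φ : M ⟶ (CohTop.push f).obj N) (p : ℕ) (x : Sheaf.H M' p) :
    PA f φ p (Sheaf.H.map a p x) = PA f (a ≫ φ) p x := by
  rw [PA_apply, PA_apply, W7Hull.pullAb_map, ← Sheaf.H.map_comp_apply, Adjunction.homEquiv_naturality_left_symm]

lemma PA_post (f : X ⟶ Y) {M : CohTop.Ab Y} {N N' : CohTop.Ab X}
    (φ : M ⟶ (CohTop.push f).obj N) (b : N ⟶ N') (p : ℕ) (x : Sheaf.H M p) :
    Sheaf.H.map b p (PA f φ p x) = PA f (φ ≫ (CohTop.push f).map b) p x := by
  rw [PA_apply, PA_apply, ← Sheaf.H.map_comp_apply, Adjunction.homEquiv_naturality_right_symm]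

/-- Degree zero: the map on global sections. -/
lemma PA_zero (f : X ⟶ Y) {M : CohTop.Ab Y} {N : CohTop.Ab X} (φ : M ⟶ (CohTop.push f).obj N)
    (x : Sheaf.H M 0) :
    Sheaf.H.equiv₀ N isTerminalTop (PA f φ 0 x) = φ.hom.app (op ⊤) (Sheaf.H.equiv₀ M isTerminalTop x) := by
  rw [PA_apply]
  refine (Sheaf.H.equiv₀_naturality (hT := (isTerminalTop : IsTerminal (⊤ : Opens X)))
    (f := ((CohPull.invPushAdj f).homEquiv _ _).symm φ) (x := CohPull.pullAb f M 0 x)).symm.trans ?_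
  refine (congrArg ((((CohPull.invPushAdj f).homEquiv _ _).symm φ).hom.app (op ⊤))
    (CohPull.equiv₀_pullAb f M x)).trans ?_
  have h : (CohPull.invPushAdj f).unit.app M ≫ (CohTop.push f).map (((CohPull.invPushAdj f).homEquiv _ _).symm φ) = φ := by
    exact ((CohPull.invPushAdj f).homEquiv_unit M N _).symm.trans (Equiv.apply_symm_apply _ _)
  exact congr_arg (fun t => (t.hom.app (op ⊤)) (Sheaf.H.equiv₀ M isTerminalTop x)) h

/-- `f⁻¹` commutes with connecting maps. -/
lemma pullAb_δ (f : X ⟶ Y) {S : ShortComplex (CohTop.Ab Y)} (hS : S.ShortExact) (p : ℕ) (x : Sheaf.H S.X₃ p) :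
    CohPull.pullAb f _ (p + 1) (CohFinite.δH hS p x) =
      CohFinite.δH (hS.map_of_exact (CohPull.inv f)) p (CohPull.pullAb f _ p x) := by
  change (Ext.mk₀ (CohPull.oneTo f)).comp
      ((Ext.comp x hS.extClass rfl).mapExactFunctor (CohPull.inv f)) (zero_add (p + 1)) =
    ((Ext.mk₀ (CohPull.oneTo f)).comp (Ext.mapExactFunctor (CohPull.inv f) x) (zero_add p)).comp
      (hS.map_of_exact (CohPull.inv f)).extClass rfl
  rw [Ext.mapExactFunctor_comp, Ext.mapExactFunctor_extClass,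
    Ext.comp_assoc _ _ _ (zero_add p) rfl (by omega)]

/-- Commutation with connecting maps. -/
lemma PA_δ (f : X ⟶ Y) {S : ShortComplex (CohTop.Ab Y)} {T : ShortComplex (CohTop.Ab X)}
    (hS : S.ShortExact) (hT : T.ShortExact)
    (φ₁ : S.X₁ ⟶ (CohTop.push f).obj T.X₁) (φ₂ : S.X₂ ⟶ (CohTop.push f).obj T.X₂)
    (φ₃ : S.X₃ ⟶ (CohTop.push f).obj T.X₃)
    (c₁ : S.f ≫ φ₂ = φ₁ ≫ (CohTop.push f).map T.f) (c₂ : S.g ≫ φ₃ = φ₂ ≫ (CohTop.push f).map T.g)
    (p : ℕ) (x : Sheaf.H S.X₃ p) :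
    PA f φ₁ (p + 1) (CohFinite.δH hS p x) = CohFinite.δH hT p (PA f φ₃ p x) := by
  let hU := hS.map_of_exact (CohPull.inv f)
  let e := fun {M : CohTop.Ab Y} {N : CohTop.Ab X} (φ : M ⟶ (CohTop.push f).obj N) =>
    ((CohPull.invPushAdj f).homEquiv M N).symm φ
  let ψ : S.map (CohPull.inv f) ⟶ T :=
    { τ₁ := e φ₁
      τ₂ := e φ₂
      τ₃ := e φ₃
      comm₁₂ := by
        change e φ₁ ≫ T.f = (CohPull.inv f).map S.f ≫ e φ₂
        rw [← Adjunction.homEquiv_naturality_right_symm, ← Adjunction.homEquiv_naturality_left_symm, c₁]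
      comm₂₃ := by
        change e φ₂ ≫ T.g = (CohPull.inv f).map S.g ≫ e φ₃
        rw [← Adjunction.homEquiv_naturality_right_symm, ← Adjunction.homEquiv_naturality_left_symm, c₂] }
  have h1 := pullAb_δ f hS p x
  refine (congrArg (Sheaf.H.map (e φ₁) (p + 1)) h1).trans ?_
  exact (CohFinite.δH_natural hU hT ψ p _).symm

lemma inv_subsingleton (I : CohTop.Ab Y) [Injective I] (p : ℕ) : Subsingleton (Sheaf.H I (p + 1)) :=
  SiteCoh.subsingleton_ext_injective _ I p

/-- The comparison `(f ≫ g)⁻¹ ⟶ f⁻¹ g⁻¹`. -/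
def invComp (f : X ⟶ Y) (g : Y ⟶ Z) (M : CohTop.Ab Z) :
    (CohPull.inv (f ≫ g)).obj M ⟶ (CohPull.inv f).obj ((CohPull.inv g).obj M) :=
  ((CohPull.invPushAdj (f ≫ g)).homEquiv _ _).symm
    ((CohPull.invPushAdj g).unit.app M ≫
      (CohTop.push g).map ((CohPull.invPushAdj f).unit.app ((CohPull.inv g).obj M)))

lemma invComp_natural (f : X ⟶ Y) (g : Y ⟶ Z) {M N : CohTop.Ab Z} (a : M ⟶ N) :
    (CohPull.inv (f ≫ g)).map a ≫ invComp f g N =
      invComp f g M ≫ (CohPull.inv f).map ((CohPull.inv g).map a) := by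
  apply ((CohPull.invPushAdj (f ≫ g)).homEquiv _ _).injective
  refine ((CohPull.invPushAdj (f ≫ g)).homEquiv_naturality_left _ _).trans ?_
  refine Eq.trans ?_ ((CohPull.invPushAdj (f ≫ g)).homEquiv_naturality_right _ _).symm
  simp only [invComp, Equiv.apply_symm_apply, Category.assoc]
  have h1 := (CohPull.invPushAdj g).unit.naturality a
  have h2 := (CohPull.invPushAdj f).unit.naturality ((CohPull.inv g).map a)
  simp only [Functor.id_map, Functor.comp_map, Functor.id_obj, Functor.comp_obj] at h1 h2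
  change a ≫ _ ≫ _ = _ ≫ _ ≫ (CohTop.push g).map ((CohTop.push f).map _)
  rw [← Category.assoc, h1, Category.assoc, ← Functor.map_comp, ← Functor.map_comp, h2]

lemma pullAb_comp_zero (f : X ⟶ Y) (g : Y ⟶ Z) (M : CohTop.Ab Z) (x : Sheaf.H M 0) :
    Sheaf.H.map (invComp f g M) 0 (CohPull.pullAb (f ≫ g) M 0 x) =
      CohPull.pullAb f _ 0 (CohPull.pullAb g M 0 x) := by
  apply (Sheaf.H.equiv₀ ((CohPull.inv f).obj ((CohPull.inv g).obj M))
    (isTerminalTop : IsTerminal (⊤ : Opens X))).injective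
  refine (PA_zero (f ≫ g) ((CohPull.invPushAdj g).unit.app M ≫
      (CohTop.push g).map ((CohPull.invPushAdj f).unit.app ((CohPull.inv g).obj M))) x).trans ?_
  rw [CohPull.equiv₀_pullAb, CohPull.equiv₀_pullAb]
  rfl

/-- Pullback of classes along a composite. -/
lemma pullAb_comp (f : X ⟶ Y) (g : Y ⟶ Z) : ∀ (p : ℕ) (M : CohTop.Ab Z) (x : Sheaf.H M p),
    Sheaf.H.map (invComp f g M) p (CohPull.pullAb (f ≫ g) M p x) =
      CohPull.pullAb f _ p (CohPull.pullAb g M p x)
  | 0, M, x => pullAb_comp_zero f g M x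
  | p + 1, M, x => by
    have hS := embedSeq_shortExact M
    obtain ⟨y, rfl⟩ := (CohFinite.map_f_eq_zero_iff hS p x).1
      (by haveI := inv_subsingleton (embedSeq M).X₂ p; exact Subsingleton.elim _ _)
    let hg := hS.map_of_exact (CohPull.inv g)
    let hf := hg.map_of_exact (CohPull.inv f)
    let hfg := hS.map_of_exact (CohPull.inv (f ≫ g))
    let ψ : (embedSeq M).map (CohPull.inv (f ≫ g)) ⟶ ((embedSeq M).map (CohPull.inv g)).map (CohPull.inv f) :=
      { τ₁ := invComp f g _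
        τ₂ := invComp f g _
        τ₃ := invComp f g _
        comm₁₂ := (invComp_natural f g (embedSeq M).f).symm
        comm₂₃ := (invComp_natural f g (embedSeq M).g).symm }
    refine (congrArg (Sheaf.H.map (invComp f g M) (p + 1)) (pullAb_δ (f ≫ g) hS p y)).trans ?_
    refine ((CohFinite.δH_natural hfg hf ψ p _).symm).trans ?_
    refine Eq.trans (congrArg (CohFinite.δH hf p) (pullAb_comp f g p _ y)) ?_
    exact ((congrArg (CohPull.pullAb f _ (p + 1)) (pullAb_δ g hS p y)).trans (pullAb_δ f hg p _)).symm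

/-- `PA` along a composite. -/
lemma PA_comp (f : X ⟶ Y) (g : Y ⟶ Z) {M : CohTop.Ab Z} {N : CohTop.Ab Y} {P : CohTop.Ab X}
    (ψ : N ⟶ (CohTop.push f).obj P) (φ : M ⟶ (CohTop.push g).obj N) (p : ℕ) (x : Sheaf.H M p) :
    PA f ψ p (PA g φ p x) = PA (f ≫ g) (φ ≫ (CohTop.push g).map ψ) p x := by
  rw [PA_apply g φ, PA_pre]
  rw [PA_apply, ← pullAb_comp f g, ← Sheaf.H.map_comp_apply]
  refine congrArg (fun t => Sheaf.H.map t p (CohPull.pullAb (f ≫ g) M p x)) ?_
  apply ((CohPull.invPushAdj (f ≫ g)).homEquiv _ _).injective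
  refine ((CohPull.invPushAdj (f ≫ g)).homEquiv_naturality_right _ _).trans ?_
  simp only [invComp, Equiv.apply_symm_apply]
  let α := ((CohPull.invPushAdj g).homEquiv M N).symm φ
  let β := ((CohPull.invPushAdj f).homEquiv _ P).symm (α ≫ ψ)
  change ((CohPull.invPushAdj g).unit.app M ≫ (CohTop.push g).map ((CohPull.invPushAdj f).unit.app _)) ≫
    (CohTop.push g).map ((CohTop.push f).map β) = φ ≫ (CohTop.push g).map ψ
  have h1 : (CohPull.invPushAdj f).unit.app _ ≫ (CohTop.push f).map β = α ≫ ψ := by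
    exact ((CohPull.invPushAdj f).homEquiv_unit _ P _).symm.trans (Equiv.apply_symm_apply _ _)
  have h2 : (CohPull.invPushAdj g).unit.app M ≫ (CohTop.push g).map α = φ := by
    exact ((CohPull.invPushAdj g).homEquiv_unit M N _).symm.trans (Equiv.apply_symm_apply _ _)
  rw [Category.assoc, ← Functor.map_comp, h1, Functor.map_comp, ← Category.assoc, h2]

/-- `PA` along equal maps, with maps agreeing on sections. -/
lemma PA_congr {f f' : X ⟶ Y} (h : f = f') {M : CohTop.Ab Y} {N : CohTop.Ab X}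
    (φ : M ⟶ (CohTop.push f).obj N) (φ' : M ⟶ (CohTop.push f').obj N)
    (hφ : ∀ (W : Opens Y) (s : M.obj.obj (op W)), φ'.hom.app (op W) s =
      N.obj.map (eqToHom (h ▸ rfl : (Opens.map f').obj W = (Opens.map f).obj W)).op (φ.hom.app (op W) s))
    (p : ℕ) : PA f φ p = PA f' φ' p := by
  subst h
  have : φ = φ' := ObjectProperty.hom_ext _ (NatTrans.ext (funext fun W => ConcreteCategory.hom_ext _ _ fun s => by
    refine Eq.trans ?_ (hφ W.unop s).symm
    simp))
  rw [this]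

end Groth.Agent.W7Gen
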