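import Groth.Agent.W7Gen.Push
import Groth.Agent.QC.PullSect
import Groth.Agent.QC.Basic
import Groth.Prelude.Def_CohCmp

/-!
`CohPull.pullOn` and `CohPull.resLE` in terms of sections.
-/

set_option autoImplicit false
set_option backward.isDefEq.respectTransparency false
set_option linter.style.haveILetI false

universe u

open CategoryTheory CategoryTheory.Limits AlgebraicGeometry TopologicalSpace Opposite Abelian
open Groth.Agent.QC (res resO res_res res_self res_smul app_res)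

noncomputable section

namespace Groth.Agent.W7Gen

variable {X Y Z : Scheme.{u}}

lemma map_map (M : X.Modules) {U V W : (X.Opens)ᵒᵖ} (a : U ⟶ V) (b : V ⟶ W) (c : U ⟶ W)
    (s : M.presheaf.obj U) : M.presheaf.map b (M.presheaf.map a s) = M.presheaf.map c s := by
  rw [← ConcreteCategory.comp_apply, ← Functor.map_comp, Subsingleton.elim (a ≫ b) c]

/-- The adjoint map of `pullOnIso`. -/
def xiMod (g : X ⟶ Y) (U : Y.Opens) (U' : X.Opens) (h : U' ≤ g ⁻¹ᵁ U) (F : Y.Modules) :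
    F.restrict U.ι ⟶ (Scheme.Modules.pushforward (g.resLE U U' h)).obj
      (((Scheme.Modules.pullback g).obj F).restrict U'.ι) :=
  (Scheme.Modules.pullbackPushforwardAdjunction (g.resLE U U' h)).unit.app (F.restrict U.ι) ≫
    (Scheme.Modules.pushforward (g.resLE U U' h)).map (CohPull.pullOnIso g U U' h F).hom

/-- The same, for abelian sheaves. -/
def xiAb (g : X ⟶ Y) (U : Y.Opens) (U' : X.Opens) (h : U' ≤ g ⁻¹ᵁ U) (F : Y.Modules) :
    Coh.toAb (F.restrict U.ι) ⟶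
      (CohTop.push (g.resLE U U' h).base).obj (Coh.toAb (((Scheme.Modules.pullback g).obj F).restrict U'.ι)) :=
  (SheafOfModules.toSheaf U.toScheme.ringCatSheaf).map (xiMod g U U' h F)

lemma pullMod_eq (g : X ⟶ Y) (M : Y.Modules) (p : ℕ) :
    CohPull.pullMod g M p = PA g.base ((SheafOfModules.toSheaf Y.ringCatSheaf).map
      ((Scheme.Modules.pullbackPushforwardAdjunction g).unit.app M)) p := rfl

theorem pullOn_eq (g : X ⟶ Y) (U : Y.Opens) (U' : X.Opens) (h : U' ≤ g ⁻¹ᵁ U) (F : Y.Modules) (p : ℕ) :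
    CohPull.pullOn g U U' h F p = PA (g.resLE U U' h).base (xiAb g U U' h F) p := by
  refine AddMonoidHom.ext fun x => ?_
  exact (PA_post _ _ _ p x).trans
    (congrArg (fun t => PA (g.resLE U U' h).base t p x)
      ((SheafOfModules.toSheaf U.toScheme.ringCatSheaf).map_comp
        ((Scheme.Modules.pullbackPushforwardAdjunction (g.resLE U U' h)).unit.app (F.restrict U.ι))
        ((Scheme.Modules.pushforward (g.resLE U U' h)).map (CohPull.pullOnIso g U U' h F).hom)).symm)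

lemma image_preimage_resLE (g : X ⟶ Y) (U : Y.Opens) (U' : X.Opens) (h : U' ≤ g ⁻¹ᵁ U) (W : U.toScheme.Opens) :
    U'.ι ''ᵁ ((g.resLE U U' h) ⁻¹ᵁ W) ≤ g ⁻¹ᵁ (U.ι ''ᵁ W) := by
  rintro _ ⟨z, hz, rfl⟩
  exact ⟨g.resLE U U' h z, hz, congrArg (fun k => k z) (Scheme.Hom.resLE_comp_ι g h)⟩

/-- On sections: pull back and restrict. -/
theorem xiMod_app (g : X ⟶ Y) (U : Y.Opens) (U' : X.Opens) (h : U' ≤ g ⁻¹ᵁ U) (F : Y.Modules)
    (W : U.toScheme.Opens) (s : Γ(F, U.ι ''ᵁ W)) :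
    (xiMod g U U' h F).app W s =
      res ((Scheme.Modules.pullback g).obj F) (image_preimage_resLE g U U' h W) (OmegaSh.pullSect g F (U.ι ''ᵁ W) s) := by
  let r := g.resLE U U' h
  let G := (Scheme.Modules.pullback g).obj F
  have hW : U.ι ⁻¹ᵁ (U.ι ''ᵁ W) = W := U.ι.preimage_image_eq W
  -- push the section through the five isomorphisms
  let W' := r ⁻¹ᵁ W
  let ρ := Scheme.Modules.restrictFunctorIsoPullback U.ι
  let ρ' := Scheme.Modules.restrictFunctorIsoPullback U'.ι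
  have h1 : (ρ.hom.app F).app W s = res _ hW.ge (OmegaSh.pullSect U.ι F (U.ι ''ᵁ W) s) := by
    refine Eq.trans ?_ (congrArg (res _ hW.ge) (QC.restrictIso_hom_pullSect U.ι F (U.ι ''ᵁ W) s))
    refine Eq.trans ?_ (app_res (ρ.hom.app F) hW.ge _).symm
    refine congrArg ((ρ.hom.app F).app W) ?_
    refine Eq.symm ((res_res F _ _ s).trans ?_)
    exact res_self F _ s
  have h2 : OmegaSh.pullSect r ((Scheme.Modules.pullback U.ι).obj F) W ((ρ.hom.app F).app W s) =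
      res _ (r.preimage_mono hW.ge) (OmegaSh.pullSect r _ (U.ι ⁻¹ᵁ (U.ι ''ᵁ W)) (OmegaSh.pullSect U.ι F (U.ι ''ᵁ W) s)) :=
    (congrArg _ h1).trans (OmegaSh.pullSect_map r _ hW.ge _)
  let O := U.ι ''ᵁ W
  have e := Scheme.Hom.resLE_comp_ι g h
  have hW' : W' ≤ r ⁻¹ᵁ (U.ι ⁻¹ᵁ O) := r.preimage_mono hW.ge
  have hW'' : W' ≤ (U'.ι ≫ g) ⁻¹ᵁ O := by rw [← e]; exact hW'
  have hT : W' ≤ U'.ι ⁻¹ᵁ (g ⁻¹ᵁ O) := hW''
  let c₁ := (Scheme.Modules.pullbackComp r U.ι).hom.app F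
  let c₂ := (Scheme.Modules.pullbackCongr e).hom.app F
  let c₃ := (Scheme.Modules.pullbackComp U'.ι g).inv.app F
  let c₄ := ρ'.inv.app G
  have h3 : c₃.app ((U'.ι ≫ g) ⁻¹ᵁ O) (OmegaSh.pullSect (U'.ι ≫ g) F O s) =
      OmegaSh.pullSect U'.ι G (g ⁻¹ᵁ O) (OmegaSh.pullSect g F O s) :=
    (congrArg (c₃.app _) (QC.pullbackComp_hom_pullSect U'.ι g F O s).symm).trans
      (congr(($((Scheme.Modules.pullbackComp U'.ι g).hom_inv_id_app F)).app _ _))
  have h4 : c₄.app (U'.ι ⁻¹ᵁ (g ⁻¹ᵁ O)) (OmegaSh.pullSect U'.ι G (g ⁻¹ᵁ O) (OmegaSh.pullSect g F O s)) =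
      res G (U'.ι.image_preimage_le _) (OmegaSh.pullSect g F O s) :=
    (congrArg (c₄.app _) (QC.restrictIso_hom_pullSect U'.ι G (g ⁻¹ᵁ O) _).symm).trans
      (congr(($(ρ'.hom_inv_id_app G)).app _ _))
  have e₁ : c₁.app W' (OmegaSh.pullSect r ((Scheme.Modules.pullback U.ι).obj F) W ((ρ.hom.app F).app W s)) =
      res _ hW' (OmegaSh.pullSect (r ≫ U.ι) F O s) := by
    refine (congrArg (c₁.app W') h2).trans ((app_res c₁ hW' _).symm.trans (congrArg (res _ hW') ?_))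
    exact QC.pullbackComp_hom_pullSect r U.ι F O s
  have e₂ : c₂.app W' (res _ hW' (OmegaSh.pullSect (r ≫ U.ι) F O s)) =
      res _ hW'' (OmegaSh.pullSect (U'.ι ≫ g) F O s) := by
    refine (app_res c₂ hW' _).symm.trans ((congrArg (res _ hW') (QC.pullbackCongr_hom_pullSect e F O s)).trans ?_)
    exact map_map ((Scheme.Modules.pullback (U'.ι ≫ g)).obj F) (eqToHom _).op (homOfLE hW').op (homOfLE hW'').op _
  have e₃ : c₃.app W' (res _ hW'' (OmegaSh.pullSect (U'.ι ≫ g) F O s)) =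
      res _ hT (OmegaSh.pullSect U'.ι G (g ⁻¹ᵁ O) (OmegaSh.pullSect g F O s)) :=
    (app_res c₃ hW'' _).symm.trans (congrArg (res _ hW'') h3)
  have e₄ : c₄.app W' (res _ hT (OmegaSh.pullSect U'.ι G (g ⁻¹ᵁ O) (OmegaSh.pullSect g F O s))) =
      res G (image_preimage_resLE g U U' h W) (OmegaSh.pullSect g F O s) := by
    refine ((app_res c₄ hT _).symm.trans (congrArg (res (G.restrict U'.ι) hT) h4)).trans ?_
    exact map_map G (homOfLE (U'.ι.image_preimage_le (g ⁻¹ᵁ O))).op (U'.ι.opensFunctor.map (homOfLE hT)).op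
      (homOfLE (image_preimage_resLE g U U' h W)).op (OmegaSh.pullSect g F O s)
  change (c₁ ≫ c₂ ≫ c₃ ≫ c₄).app W' (((Scheme.Modules.pullback r).map (ρ.hom.app F)).app W'
    (OmegaSh.pullSect r (F.restrict U.ι) W s)) = _
  refine (congrArg ((c₁ ≫ c₂ ≫ c₃ ≫ c₄).app W') (QC.app_pullSect r (ρ.hom.app F) W s)).trans ?_
  exact (congrArg (fun z => c₄.app W' (c₃.app W' (c₂.app W' z))) e₁).trans
    ((congrArg (fun z => c₄.app W' (c₃.app W' z)) e₂).trans ((congrArg (c₄.app W') e₃).trans e₄))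

end Groth.Agent.W7Gen
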