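import Groth.Agent.W7Gen.PM
import Groth.Agent.W7Gen.Res
set_option autoImplicit false
set_option backward.isDefEq.respectTransparency false
set_option linter.style.haveILetI false
set_option maxHeartbeats 800000
universe u
open CategoryTheory CategoryTheory.Limits AlgebraicGeometry TopologicalSpace Opposite Abelian
open Groth.Agent.QC (res resO res_res res_self res_smul app_res)
noncomputable section
namespace Groth.Agent.W7Gen
variable {X Y Z : Scheme.{u}}
theorem pullOn_eq_PM (g : X ⟶ Y) (U : Y.Opens) (U' : X.Opens) (h : U' ≤ g ⁻¹ᵁ U) (F : Y.Modules) (p : ℕ) :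
    CohPull.pullOn g U U' h F p = PM (g.resLE U U' h) (xiMod g U U' h F) p := pullOn_eq g U U' h F p

lemma pullbackId_hom_pullSect (M : X.Modules) (W : X.Opens) (m : Γ(M, W)) :
    ((Scheme.Modules.pullbackId X).hom.app M).app W (OmegaSh.pullSect (𝟙 X) M W m) = m := by
  have h := unit_conjugateEquiv (Adjunction.id (C := X.Modules))
    (Scheme.Modules.pullbackPushforwardAdjunction (𝟙 X)) (Scheme.Modules.pullbackId X).hom M
  rw [Scheme.Modules.conjugateEquiv_pullbackId_hom] at h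
  exact congr(($h).app W m).symm

/-- The inclusion of a smaller open, in the shape used by `resLE`. -/
abbrev rI {U U' : X.Opens} (h : U' ≤ U) : U'.toScheme ⟶ U.toScheme :=
  (𝟙 X : X ⟶ X).resLE U U' (by rwa [Scheme.Hom.id_preimage])

lemma rI_ι {U U' : X.Opens} (h : U' ≤ U) : rI h ≫ U.ι = U'.ι :=
  (Scheme.Hom.resLE_comp_ι _ _).trans (Category.comp_id _)

lemma rI_image_le {U U' : X.Opens} (h : U' ≤ U) (W : U.toScheme.Opens) :
    U'.ι ''ᵁ ((rI h) ⁻¹ᵁ W) ≤ U.ι ''ᵁ W := by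
  rintro _ ⟨z, hz, rfl⟩
  exact ⟨rI h z, hz, congrArg (fun k => k z) (rI_ι h)⟩

/-- The adjoint map of restriction. -/
def rhoMod (F : X.Modules) {U U' : X.Opens} (h : U' ≤ U) :
    F.restrict U.ι ⟶ (Scheme.Modules.pushforward (rI h)).obj (F.restrict U'.ι) :=
  xiMod (𝟙 X) U U' (by rwa [Scheme.Hom.id_preimage]) F ≫
    (Scheme.Modules.pushforward (rI h)).map
      ((Scheme.Modules.restrictFunctor U'.ι).map ((Scheme.Modules.pullbackId X).hom.app F))

theorem resLE_eq (F : X.Modules) {U U' : X.Opens} (h : U' ≤ U) (p : ℕ) :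
    CohPull.resLE F h p = PM (rI h) (rhoMod F h) p := by
  refine AddMonoidHom.ext fun x => ?_
  have h' : U' ≤ (𝟙 X : X ⟶ X) ⁻¹ᵁ U := by rwa [Scheme.Hom.id_preimage]
  unfold CohPull.resLE
  change CohPull.mapH _ p (CohPull.pullOn (𝟙 X) U U' h' F p x) = _
  rw [pullOn_eq_PM]
  exact PM_post (rI h) (xiMod (𝟙 X) U U' h' F)
    ((Scheme.Modules.restrictFunctor U'.ι).map ((Scheme.Modules.pullbackId X).hom.app F)) p x

theorem rhoMod_app (F : X.Modules) {U U' : X.Opens} (h : U' ≤ U) (W : U.toScheme.Opens) (s : Γ(F, U.ι ''ᵁ W)) :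
    (rhoMod F h).app W s = res F (rI_image_le h W) s := by
  have h' : U' ≤ (𝟙 X : X ⟶ X) ⁻¹ᵁ U := by rwa [Scheme.Hom.id_preimage]
  let G := (Scheme.Modules.pullback (𝟙 X)).obj F
  let c : G ⟶ F := (Scheme.Modules.pullbackId X).hom.app F
  have e1 : (rhoMod F h).app W s =
      c.app (U'.ι ''ᵁ ((rI h) ⁻¹ᵁ W)) ((xiMod (𝟙 X) U U' h' F).app W s) := rfl
  have e2 := xiMod_app (𝟙 X) U U' h' F W s
  have e3 := (app_res c (image_preimage_resLE (𝟙 X) U U' h' W) (OmegaSh.pullSect (𝟙 X) F (U.ι ''ᵁ W) s)).symm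
  have e4 := pullbackId_hom_pullSect F (U.ι ''ᵁ W) s
  rw [e1, e2]
  exact e3.trans (congrArg (res F _) e4)

end Groth.Agent.W7Gen
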