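import Groth.Agent.W7Gen.TSquare
set_option autoImplicit false
set_option backward.isDefEq.respectTransparency false
set_option backward.isDefEq.respectTransparency.types false
set_option linter.style.haveILetI false
set_option maxHeartbeats 400000

universe u

open CategoryTheory CategoryTheory.Limits AlgebraicGeometry TopologicalSpace Opposite
open Groth.Agent.QC (res resO res_res res_self res_smul app_res resO_resO resO_self)
open Groth.Agent.W7Cech (secA secRing unitSec pairing pairing_tmul pairing_bijective pairing_bijective_ring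
  res_unitSec map_unitSec map_tm pullSec isBaseChange_pullSec resO_secRing secRing_comm isAffineHom_bc)
open scoped TensorProduct

noncomputable section

namespace Groth.Agent.W7Gen

variable (A : Type u) [CommRing A] {X : Scheme.{u}} [X.Over (Spec (CommRingCat.of A))]

section Square

variable (B : Type u) [CommRing B] [Algebra A B] {X' : Scheme.{u}}
  [X'.Over (Spec (CommRingCat.of B))] (g : X' ⟶ X)
  (sq : IsPullback g (X' ↘ Spec (CommRingCat.of B)) (X ↘ Spec (CommRingCat.of A))
    (Spec.map (CommRingCat.ofHom (algebraMap A B))))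
  (F : X.Modules)

lemma smul_eMap (p : ℕ) (b : B) (x : Coh.HH X ((CohIII.tensorAFunctor A F).obj (ModuleCat.of A B)) p) :
    b • eMap A B g sq F p x = Sheaf.H.map (Coh.smulAb ((Scheme.Modules.pullback g).obj F)
      (Coh.toGlobal (X' ↘ Spec (CommRingCat.of B)) b)) p (eMap A B g sq F p x) := rfl

lemma uMap_muB_ab (b : B) :
    (SheafOfModules.toSheaf X.ringCatSheaf).map ((CohIII.tensorAFunctor A F).map (muB A B b) ≫ uMap A B g sq F) =
      (SheafOfModules.toSheaf X.ringCatSheaf).map (uMap A B g sq F) ≫
        (CohTop.push g.base).map (Coh.smulAb ((Scheme.Modules.pullback g).obj F)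
          (Coh.toGlobal (X' ↘ Spec (CommRingCat.of B)) b)) := by
  refine ObjectProperty.hom_ext _ (NatTrans.ext (funext fun W => ConcreteCategory.hom_ext _ _ fun z => ?_))
  have a1 := uMap_muB A B g sq F b W.unop z
  have a2 := Coh.smulAb_app ((Scheme.Modules.pullback g).obj F)
    (Coh.toGlobal (X' ↘ Spec (CommRingCat.of B)) b) (op (g ⁻¹ᵁ W.unop))
    (show Γ((Scheme.Modules.pullback g).obj F, g ⁻¹ᵁ W.unop) from (uMap A B g sq F).app W.unop z)
  exact a1.trans a2.symm

/-- `b • E x = E ((1 ⊗ b) x)`. -/
theorem eMap_muB (p : ℕ) (b : B) (x : Coh.HH X ((CohIII.tensorAFunctor A F).obj (ModuleCat.of A B)) p) :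
    eMap A B g sq F p (CohPull.mapH ((CohIII.tensorAFunctor A F).map (muB A B b)) p x) =
      b • eMap A B g sq F p x := by
  rw [smul_eMap]
  unfold eMap
  rw [PM_pre]
  unfold PM
  refine Eq.trans ?_ (PA_post g.base (N := Coh.toAb ((Scheme.Modules.pullback g).obj F))
    ((SheafOfModules.toSheaf X.ringCatSheaf).map (uMap A B g sq F))
    (Coh.smulAb ((Scheme.Modules.pullback g).obj F) (Coh.toGlobal (X' ↘ Spec (CommRingCat.of B)) b)) p x).symm
  exact congrArg (fun t => PA g.base t p x) (uMap_muB_ab A B g sq F b)

/-- Compatibility with the pullback. -/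
theorem eMap_iota (p : ℕ) (x : Coh.HH X ((CohIII.tensorAFunctor A F).obj (ModuleCat.of A A)) p) :
    eMap A B g sq F p (CohPull.mapH ((CohIII.tensorAFunctor A F).map (iotaB A B)) p x) =
      CohPull.pullMod g F p (CohPull.mapH (dMap A F) p x) := by
  refine (PM_pre g _ (uMap A B g sq F) p x).trans ?_
  rw [uMap_iota A B g sq F]
  exact (PM_pre g (dMap A F) ((Scheme.Modules.pullbackPushforwardAdjunction g).unit.app F) p x).symm

end Square

end Groth.Agent.W7Gen
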